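import Cfsg.Agent.Lib.RGD.Core
import Cfsg.Agent.Lib.BN.Steinberg

/-!
# The Steinberg character of a group with root group data

* `St_one_eq`, `St_Upos` : degree `|Upos|`, vanishing on `Upos - {1}`;
* `St_B` : on `B` it is the permutation character on the cosets of `H`.
-/

set_option autoImplicit false

namespace Cfsg.Agent.RGD

namespace RootData

variable {Γ : Type*} [Group Γ] {Φ I : Type*} (R : RootData Γ Φ I)

open Cfsg.Agent.BN

/-- A representative of the longest element, with the big cell conjugating `Upos` onto `Vneg`. -/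
lemma exists_long_rep [Finite R.G] {l : List I} (hl : ∀ r, R.pos r → ¬ R.pos (R.ww l r)) :
    ∃ n : R.G, (n : Γ) = (R.nw l)⁻¹ ∧ n ∈ R.bnPair.N ∧
      R.Upos.map (MulAut.conj (R.nw l)).toMonoidHom = R.Vneg ∧ n ∈ C R.bnPair (w0 R.bnPair) := by
  have hmap := R.map_conj_long hl
  have hN : (R.nw l)⁻¹ ∈ R.N := inv_mem (R.nw_mem_N l)
  refine ⟨⟨_, R.N_le_G hN⟩, rfl, hN, hmap, ?_⟩
  set n : R.G := ⟨_, R.N_le_G hN⟩ with hn
  have hnN : n ∈ R.bnPair.N := hN
  have hw : BN.wOf R.bnPair hnN = w0 R.bnPair := by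
    refine eq_w0 R.bnPair fun s => ?_
    obtain ⟨s, i, rfl⟩ := s
    rcases (hasExchange R.bnPair).wlen_sigma_mul_cases ⟨R.nG i, i, rfl⟩ (BN.wOf R.bnPair hnN)⁻¹ with hc | hc
    swap
    · rw [(hasExchange R.bnPair).rightDesc_iff, LeftDesc]
      omega
    exfalso
    obtain ⟨⟨y, hy⟩, hy0⟩ := (R.U (R.neg (R.simple i))).ne_bot_iff_exists_ne_one.1 (R.U_ne_bot _)
    have hy1 : y ≠ 1 := fun e => hy0 (Subtype.ext e)
    obtain ⟨a, ha, h, hh, c, hc', e⟩ := R.rank_one i y hy hy1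
    have hyG : y ∈ R.G := by
      rw [e]
      exact mul_mem (mul_mem (mul_mem (R.B_le_G (R.Upos_le_B (R.U_le_Upos (R.pos_simple i) ha)))
        (R.B_le_G (R.H_le_B hh))) (R.n_mem_G i)) (R.B_le_G (R.Upos_le_B (R.U_le_Upos (R.pos_simple i) hc')))
    have hyC : (⟨y, hyG⟩ : R.G) ∈ C R.bnPair (BN.sigma R.bnPair ⟨R.nG i, i, rfl⟩) := by
      refine (mem_C_mk R.bnPair).2 ⟨⟨a * h, mul_mem (R.B_le_G (R.Upos_le_B (R.U_le_Upos (R.pos_simple i) ha)))
        (R.B_le_G (R.H_le_B hh))⟩, ?_, ⟨c, R.B_le_G (R.Upos_le_B (R.U_le_Upos (R.pos_simple i) hc'))⟩, ?_, ?_⟩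
      · exact mul_mem (R.Upos_le_B (R.U_le_Upos (R.pos_simple i) ha)) (R.H_le_B hh)
      · exact R.Upos_le_B (R.U_le_Upos (R.pos_simple i) hc')
      · exact Subtype.ext e
    have hadd : len R.bnPair (BN.wOf R.bnPair hnN * BN.sigma R.bnPair ⟨R.nG i, i, rfl⟩) =
        len R.bnPair (BN.wOf R.bnPair hnN) + len R.bnPair (BN.sigma R.bnPair ⟨R.nG i, i, rfl⟩) := by
      simp only [len]
      rw [(hasExchange R.bnPair).wlen_sigma, ← wlen_inv (sigma_sq R.bnPair) (closure_sigma R.bnPair),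
        mul_inv_rev, sigma_inv' R.bnPair, hc, wlen_inv (sigma_sq R.bnPair) (closure_sigma R.bnPair)]
    have h1 := mul_mem_C_add R.bnPair hadd (self_mem_C R.bnPair hnN) hyC
    -- but `n y n⁻¹` lies in `Upos`
    have h2 : n * ⟨y, hyG⟩ * n⁻¹ ∈ R.bnPair.B := by
      show (R.nw l)⁻¹ * y * ((R.nw l)⁻¹)⁻¹ ∈ R.B
      have hy' : y ∈ R.Upos.map (MulAut.conj (R.nw l)).toMonoidHom := by
        rw [hmap]
        exact R.U_le_Vneg (fun hp => (R.pos_neg _).1 hp (R.pos_simple i)) hy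
      obtain ⟨u, hu, rfl⟩ := hy'
      simpa [MulAut.conj_apply, mul_assoc] using R.Upos_le_B hu
    have h3 : n * ⟨y, hyG⟩ ∈ C R.bnPair (BN.wOf R.bnPair hnN) := by
      rw [show n * ⟨y, hyG⟩ = n * ⟨y, hyG⟩ * n⁻¹ * n by group]
      exact mul_mem_C_left R.bnPair h2 (self_mem_C R.bnPair hnN)
    exact sigma_ne_one R.bnPair _ (mul_eq_left.1 (C_unique R.bnPair h1 h3))
  rw [← hw]
  exact self_mem_C R.bnPair hnN

theorem St_one_eq [Finite R.G] {l : List I} (hl : ∀ r, R.pos r → ¬ R.pos (R.ww l r)) : St R.bnPair 1 = (Nat.card R.Upos : ℂ) ∧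
    ∀ u : R.G, (u : Γ) ∈ R.Upos → u ≠ 1 → St R.bnPair u = 0 := by
  obtain ⟨n, hn, hnN, hmap, hC⟩ := R.exists_long_rep hl
  have h := St_of_regular R.bnPair (R.Upos.subgroupOf R.G) (fun x hx => R.Upos_le_B hx) hC ?_ ?_
  · refine ⟨?_, h.2⟩
    rw [h.1, Nat.card_congr (Subgroup.subgroupOfEquivOfLe (R.Upos_le_B.trans R.B_le_G)).toEquiv]
  · intro b hb
    obtain ⟨u, hu, k, hk, e⟩ := R.exists_B hb
    refine ⟨⟨u, R.B_le_G (R.Upos_le_B hu)⟩, hu, ?_⟩
    show ((b : Γ) * n)⁻¹ * (u * n) ∈ R.B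
    rw [show (b : Γ) = u * k from e, hn]
    have := R.conj_H_mem (R.nw_mem_N l) (inv_mem hk)
    convert R.H_le_B this using 1
    group
  · intro u hu hB
    have h1 : (n : Γ)⁻¹ * u * n ∈ R.B ⊓ R.Vneg := by
      refine Subgroup.mem_inf.2 ⟨hB, ?_⟩
      rw [← hmap, hn]
      exact ⟨u, hu, by simp [MulAut.conj_apply]⟩
    rw [show R.B ⊓ R.Vneg = ⊥ from R.B_inf_V, Subgroup.mem_bot] at h1
    refine Subtype.ext ?_
    calc (u : Γ) = (n : Γ) * ((n : Γ)⁻¹ * u * n) * (n : Γ)⁻¹ := by group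
      _ = 1 := by rw [h1]; group

/-- The restriction to `B`. -/
theorem St_B [Finite R.G] {l : List I} (hl : ∀ r, R.pos r → ¬ R.pos (R.ww l r))
    (b : R.B.subgroupOf R.G) :
    St R.bnPair (b : R.G) = Cfsg.fixedPointCharacter ((R.H.subgroupOf R.G).subgroupOf (R.B.subgroupOf R.G)) b := by
  obtain ⟨n, hn, hnN, hmap, hC⟩ := R.exists_long_rep hl
  rw [St_apply_of_mem_B R.bnPair b.2, Cfsg.fixedPointCharacter]
  congr 1
  have hH : ∀ {k : Γ}, k ∈ R.H → (n : Γ)⁻¹ * k * n ∈ R.H := fun hk => by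
    have := R.conj_H_mem (R.nw_mem_N l) hk
    rw [hn, inv_inv]
    convert this using 1
  have hfree : ∀ u ∈ R.Upos, (n : Γ)⁻¹ * u * n ∈ R.B → u = 1 := by
    intro u hu hB
    have h1 : (n : Γ)⁻¹ * u * n ∈ R.B ⊓ R.Vneg := by
      refine Subgroup.mem_inf.2 ⟨hB, ?_⟩
      rw [← hmap, hn]
      exact ⟨u, hu, by simp [MulAut.conj_apply]⟩
    rw [show R.B ⊓ R.Vneg = ⊥ from R.B_inf_V, Subgroup.mem_bot] at h1
    calc u = (n : Γ) * ((n : Γ)⁻¹ * u * n) * (n : Γ)⁻¹ := by group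
      _ = 1 := by rw [h1]; group
  let f : R.B.subgroupOf R.G ⧸ (R.H.subgroupOf R.G).subgroupOf (R.B.subgroupOf R.G) → R.G ⧸ R.bnPair.B :=
    fun q => Quotient.liftOn' q (fun x => (((x : R.G) * n : R.G) : R.G ⧸ R.bnPair.B)) (fun x y hxy => by
      rw [QuotientGroup.leftRel_apply] at hxy
      refine QuotientGroup.eq.2 ?_
      show (((x : R.G) : Γ) * n)⁻¹ * (((y : R.G) : Γ) * n) ∈ R.B
      have hxy' : ((x : R.G) : Γ)⁻¹ * ((y : R.G) : Γ) ∈ R.H := hxy
      convert R.H_le_B (hH hxy') using 1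
      group)
  have hf : ∀ x : R.B.subgroupOf R.G, f (x : _ ⧸ _) = (((x : R.G) * n : R.G) : R.G ⧸ R.bnPair.B) := fun _ => rfl
  have hcell : ∀ q, f q ∈ bigCell R.bnPair := by
    intro q
    induction q using QuotientGroup.induction_on with
    | H x => rw [hf, mem_bigCell]; exact mul_mem_C_left R.bnPair x.2 hC
  have hinj : Function.Injective f := by
    intro q q'
    induction q using QuotientGroup.induction_on with
    | H x =>
    induction q' using QuotientGroup.induction_on with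
    | H y =>
      intro h
      rw [hf, hf, QuotientGroup.eq] at h
      have h' : (((x : R.G) : Γ) * n)⁻¹ * (((y : R.G) : Γ) * n) ∈ R.B := h
      rw [QuotientGroup.eq]
      show ((x : R.G) : Γ)⁻¹ * ((y : R.G) : Γ) ∈ R.H
      obtain ⟨u, hu, k, hk, e⟩ := R.exists_B
        (show ((x : R.G) : Γ)⁻¹ * ((y : R.G) : Γ) ∈ R.B from mul_mem (inv_mem x.2) y.2)
      have h1 : (n : Γ)⁻¹ * u * n ∈ R.B := by
        have := mul_mem h' (R.H_le_B (inv_mem (hH hk)))
        convert this using 1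
        rw [show (((x : R.G) : Γ) * n)⁻¹ * (((y : R.G) : Γ) * n) =
          (n : Γ)⁻¹ * (((x : R.G) : Γ)⁻¹ * ((y : R.G) : Γ)) * n by group, e]
        group
      rw [e, hfree u hu h1, one_mul]
      exact hk
  have hsurj : ∀ z ∈ bigCell R.bnPair, ∃ q, f q = z := by
    intro z hz
    induction z using QuotientGroup.induction_on with
    | H g =>
      rw [mem_bigCell] at hz
      rw [← C_unique R.bnPair (self_mem_C R.bnPair hnN) hC] at hz
      obtain ⟨a, ha, c, hc, rfl⟩ := (mem_C_mk R.bnPair).1 hz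
      exact ⟨((⟨a, ha⟩ : R.B.subgroupOf R.G) : _ ⧸ _), by
        rw [hf]; exact (QuotientGroup.mk_mul_of_mem (a * n) hc).symm⟩
  have heq : ∀ q, (b : R.G) • f q = f (b • q) := by
    intro q
    induction q using QuotientGroup.induction_on with
    | H x =>
      rw [MulAction.Quotient.smul_coe, hf, hf, MulAction.Quotient.smul_coe]
      congr 1
      exact (mul_assoc _ _ _).symm
  refine (Nat.card_congr (Equiv.ofBijective
    (fun q : MulAction.fixedBy _ b => (⟨f q.1, hcell _, by rw [heq, q.2]⟩ :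
      {z : R.G ⧸ R.bnPair.B // z ∈ bigCell R.bnPair ∧ (b : R.G) • z = z})) ⟨?_, ?_⟩)).symm
  · intro q q' h
    exact Subtype.ext (hinj (congrArg Subtype.val h))
  · rintro ⟨z, hz, hfix⟩
    obtain ⟨q, rfl⟩ := hsurj z hz
    exact ⟨⟨q, hinj (by rw [← heq]; exact hfix)⟩, rfl⟩

end RootData

end Cfsg.Agent.RGD
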