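import Cfsg.Agent.Lib.RGD.BN

/-!
# The refined Bruhat decomposition of root group data

* `Uminus l` : the product of the positive root subgroups that `l` makes negative;
* `exists_normalForm` : `G = B (nw l) (Uminus l)`;
* `mem_H_of_eq` : the class modulo `H` in `B n B` is unique;
* `normalForm_unique` : for a fixed representative the factors are unique.
-/

set_option autoImplicit false

namespace Cfsg.Agent.RGD.RootData

variable {Γ : Type*} [Group Γ] {Φ I : Type*} (R : RootData Γ Φ I)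

/-- The span of the positive roots made negative by `l`. -/
def Uminus (l : List I) : Subgroup Γ := R.span {r | R.pos r ∧ ¬ R.pos (R.ww l r)}

lemma Uminus_le_Upos (l : List I) : R.Uminus l ≤ R.Upos := R.span_mono fun _ h => h.1

lemma Uminus_congr {l l' : List I} {k : Γ} (hk : k ∈ R.H) (e : R.nw l = k * R.nw l') :
    R.Uminus l = R.Uminus l' := by
  have : {r | R.pos r ∧ ¬ R.pos (R.ww l r)} = {r | R.pos r ∧ ¬ R.pos (R.ww l' r)} := by
    ext r
    simp only [Set.mem_setOf_eq, R.pos_ww_congr hk e r]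
  rw [Uminus, this, ← Uminus]

lemma Udel_conj_n' (i : I) {y : Γ} (hy : y ∈ R.Udel i) : (R.n i)⁻¹ * y * R.n i ∈ R.Udel i := by
  have h := R.H_conj_span _ (inv_mem (R.n_sq i)) _ (R.n_conj_Udel i y hy)
  simpa [mul_assoc, Udel] using h

lemma conj_Uminus (l : List I) : ∀ y ∈ R.Uminus l, R.nw l * y * (R.nw l)⁻¹ ∈ R.Vneg := by
  refine R.span_conj fun r hr y hy => ?_
  exact R.U_le_span (A := {s | ¬ R.pos s}) hr.2 (R.conj_U_mem (R.map_conj_U l r) hy)

/-- `U` factors as (kept positive) · (made negative). -/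
lemma exists_split (l : List I) {u : Γ} (hu : u ∈ R.Upos) :
    ∃ p ∈ R.Upos, R.nw l * p * (R.nw l)⁻¹ ∈ R.Upos ∧ ∃ m ∈ R.Uminus l, u = p * m := by
  induction hlen : l.length using Nat.strong_induction_on generalizing l u with
  | _ q ih =>
    rcases List.eq_nil_or_concat' l with rfl | ⟨l', i, rfl⟩
    · exact ⟨u, hu, by simpa using hu, 1, one_mem _, (mul_one u).symm⟩
    by_cases h : R.pos (R.ww l' (R.simple i))
    · obtain ⟨k, hk, a, ha, rfl⟩ := R.exists_Upos (i := i) hu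
      obtain ⟨p, hp, hp', m, hm, e⟩ := ih l'.length (by subst hlen; simp) l'
        (R.Udel_le_Upos i (R.n_conj_Udel i k hk)) rfl
      have hmdel : m ∈ R.Udel i :=
        R.span_mono (A' := {s | R.pos s ∧ s ≠ R.simple i})
          (fun r hr => ⟨hr.1, fun e' => hr.2 (by rw [e']; exact h)⟩) hm
      have hpdel : p ∈ R.Udel i := by
        rw [show p = R.n i * k * (R.n i)⁻¹ * m⁻¹ by rw [e]; group]
        exact mul_mem (R.n_conj_Udel i k hk) (inv_mem hmdel)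
      refine ⟨(R.n i)⁻¹ * p * R.n i, R.Udel_le_Upos i (R.Udel_conj_n' i hpdel), ?_,
        (R.n i)⁻¹ * m * R.n i * a, mul_mem ?_ ?_, ?_⟩
      · simpa [mul_assoc] using hp'
      · -- the conjugate of `m`
        have key : ∀ y ∈ R.Uminus l', (R.n i)⁻¹ * y * ((R.n i)⁻¹)⁻¹ ∈ R.Uminus (l' ++ [i]) := by
          refine R.span_conj fun r hr y hy => R.U_le_span
            (A := {s | R.pos s ∧ ¬ R.pos (R.ww (l' ++ [i]) s)}) (r := R.w i r) ?_ ?_
          · refine ⟨R.w_pos i r hr.1 fun e' => hr.2 (by rw [e']; exact h), ?_⟩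
            simp only [ww_append, ww_cons, ww_nil, R.w_w]
            exact hr.2
          · have h1 := R.H_conj_U _ (inv_mem (R.n_sq i)) _ _ (R.n_conj_U i r y hy)
            simpa [mul_assoc] using h1
        simpa using key m hm
      · refine R.U_le_span (A := {s | R.pos s ∧ ¬ R.pos (R.ww (l' ++ [i]) s)})
          ⟨R.pos_simple i, ?_⟩ ha
        simp only [ww_append, ww_cons, ww_nil, R.w_simple, R.ww_neg, R.pos_neg, not_not]
        exact h
      · rw [show k = (R.n i)⁻¹ * (R.n i * k * (R.n i)⁻¹) * R.n i by group, e]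
        group
    · obtain ⟨l'', hlen', k, hk, e⟩ := R.exists_shorter h
      obtain ⟨p, hp, hp', m, hm, e'⟩ := ih l''.length (by subst hlen; simp; omega) l'' hu rfl
      refine ⟨p, hp, ?_, m, (R.Uminus_congr hk e) ▸ hm, e'⟩
      rw [e, show k * R.nw l'' * p * (k * R.nw l'')⁻¹ = k * (R.nw l'' * p * (R.nw l'')⁻¹) * k⁻¹ by group]
      exact R.H_conj_span _ hk _ hp'

/-- `G = B (nw l) (Uminus l)`. -/
theorem exists_normalForm {g : Γ} (hg : g ∈ R.G) :
    ∃ b ∈ R.B, ∃ l : List I, ∃ u ∈ R.Uminus l, g = b * R.nw l * u := by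
  obtain ⟨w, hw⟩ := BN.exists_mem_C R.bnPair ⟨g, hg⟩
  induction w using QuotientGroup.induction_on with
  | H n =>
    obtain ⟨b, hb, b', hb', e⟩ := (BN.mem_C_mk R.bnPair).1 hw
    have e' : g = (b : Γ) * ((n : R.G) : Γ) * (b' : Γ) := congrArg Subtype.val e
    obtain ⟨h₀, hh₀, l, hn⟩ := R.mem_N_iff.1 (show ((n : R.G) : Γ) ∈ R.N from n.2)
    obtain ⟨u, hu, h, hh, hb''⟩ := R.exists_B (show (b' : Γ) ∈ R.B from hb')
    have hu' : h⁻¹ * u * h ∈ R.Upos := by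
      simpa [Upos] using R.H_conj_span _ (inv_mem hh) _ hu
    obtain ⟨p, hp, hp', m, hm, e2⟩ := R.exists_split l hu'
    refine ⟨(b : Γ) * h₀ * (R.nw l * h * (R.nw l)⁻¹) * (R.nw l * p * (R.nw l)⁻¹),
      mul_mem (mul_mem (mul_mem hb (R.H_le_B hh₀)) (R.H_le_B (R.nw_conj_H l hh)))
        (R.Upos_le_B hp'), l, m, hm, ?_⟩
    rw [e', hn, hb'', show u = h * (h⁻¹ * u * h) * h⁻¹ by group, e2]
    group

/-- The class of `n` modulo `H` is determined by `B n B`. -/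
theorem mem_H_of_eq {n n' b₁ b₂ b₁' b₂' : Γ} (hn : n ∈ R.N) (hn' : n' ∈ R.N) (h1 : b₁ ∈ R.B)
    (h2 : b₂ ∈ R.B) (h1' : b₁' ∈ R.B) (h2' : b₂' ∈ R.B)
    (e : b₁ * n * b₂ = b₁' * n' * b₂') : n⁻¹ * n' ∈ R.H := by
  let P := R.bnPair
  let x : R.G := ⟨b₁ * n * b₂, mul_mem (mul_mem (R.B_le_G h1) (R.N_le_G hn)) (R.B_le_G h2)⟩
  have hx : x ∈ BN.C P (BN.wOf P (n := ⟨n, R.N_le_G hn⟩) hn) := by
    exact (BN.mem_C_mk P).2 ⟨⟨b₁, R.B_le_G h1⟩, h1, ⟨b₂, R.B_le_G h2⟩, h2, rfl⟩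
  have hx' : x ∈ BN.C P (BN.wOf P (n := ⟨n', R.N_le_G hn'⟩) hn') := by
    exact (BN.mem_C_mk P).2 ⟨⟨b₁', R.B_le_G h1'⟩, h1', ⟨b₂', R.B_le_G h2'⟩, h2', Subtype.ext e⟩
  have h := (BN.wOf_eq_iff P _ _).1 (BN.C_unique P hx hx')
  rw [← R.B_inf_N]
  exact Subgroup.mem_inf.2 ⟨h, mul_mem (inv_mem hn) hn'⟩

/-- Uniqueness of the factors for a fixed representative. -/
theorem normalForm_unique {b b' n u u' : Γ} {l : List I} {k : Γ} (hk : k ∈ R.H)
    (en : n = k * R.nw l) (hb : b ∈ R.B) (hb' : b' ∈ R.B) (hu : u ∈ R.Uminus l)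
    (hu' : u' ∈ R.Uminus l) (e : b * n * u = b' * n * u') : b = b' ∧ u = u' := by
  have hV : R.nw l * (u' * u⁻¹) * (R.nw l)⁻¹ ∈ R.Vneg := R.conj_Uminus l _ (mul_mem hu' (inv_mem hu))
  have hB : R.nw l * (u' * u⁻¹) * (R.nw l)⁻¹ = k⁻¹ * (b'⁻¹ * b) * k := by
    subst en
    calc R.nw l * (u' * u⁻¹) * (R.nw l)⁻¹
        = (b' * k)⁻¹ * (b' * (k * R.nw l) * u') * u⁻¹ * (R.nw l)⁻¹ := by group
      _ = _ := by rw [← e]; group
  have h1 : R.nw l * (u' * u⁻¹) * (R.nw l)⁻¹ = 1 := by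
    rw [← Subgroup.mem_bot, ← R.B_inf_V]
    refine ⟨?_, hV⟩
    rw [hB]
    exact mul_mem (mul_mem (inv_mem (R.H_le_B hk)) (mul_mem (inv_mem hb') hb) : _ ∈ R.B) (R.H_le_B hk)
  rw [conj_eq_one_iff, mul_inv_eq_one] at h1
  subst h1
  exact ⟨mul_right_cancel (mul_right_cancel e), rfl⟩

end Cfsg.Agent.RGD.RootData
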