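import Cfsg.Agent.Lib.RGD.Basic
import Cfsg.Agent.Lib.BN.Parabolic

/-!
# The (B,N)-pair of root group data

* `mul_mem_union` : `n i B n ⊆ B n i n B ∪ B n B`;
* `bnPair R` : the `Cfsg.BNPair` on `R.G`, with `bnPair_B`, `bnPair_N`, `bnPair_S`.
-/

set_option autoImplicit false

namespace Cfsg.Agent.RGD

/-- A product of two subgroups, the second normalising the first. -/
lemma exists_mul_of_mem_sup {Γ : Type*} [Group Γ] {K L : Subgroup Γ}
    (h : ∀ x ∈ L, ∀ y ∈ K, x * y * x⁻¹ ∈ K) {g : Γ} (hg : g ∈ K ⊔ L) :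
    ∃ k ∈ K, ∃ l ∈ L, g = k * l := by
  rw [Subgroup.sup_eq_closure] at hg
  induction hg using Subgroup.closure_induction with
  | mem x hx =>
    rcases hx with hx | hx
    · exact ⟨x, hx, 1, one_mem _, (mul_one x).symm⟩
    · exact ⟨1, one_mem _, x, hx, (one_mul x).symm⟩
  | one => exact ⟨1, one_mem _, 1, one_mem _, (one_mul 1).symm⟩
  | mul x y _ _ hx hy =>
    obtain ⟨k, hk, l, hl, rfl⟩ := hx
    obtain ⟨k', hk', l', hl', rfl⟩ := hy
    exact ⟨k * (l * k' * l⁻¹), mul_mem hk (h l hl k' hk'), l * l', mul_mem hl hl', by group⟩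
  | inv x _ hx =>
    obtain ⟨k, hk, l, hl, rfl⟩ := hx
    exact ⟨l⁻¹ * k⁻¹ * (l⁻¹)⁻¹, h _ (inv_mem hl) _ (inv_mem hk), l⁻¹, inv_mem hl, by group⟩

namespace RootData

variable {Γ : Type*} [Group Γ] {Φ I : Type*} (R : RootData Γ Φ I)

/-- To normalise a span it is enough to map each member into it. -/
lemma span_conj {A A' : Set Φ} {g : Γ} (h : ∀ r ∈ A, ∀ y ∈ R.U r, g * y * g⁻¹ ∈ R.span A') :
    ∀ y ∈ R.span A, g * y * g⁻¹ ∈ R.span A' := by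
  intro y hy
  have : R.span A ≤ (R.span A').comap (MulAut.conj g).toMonoidHom :=
    R.span_le fun r hr z hz => h r hr z hz
  exact this hy

lemma H_conj_span (A : Set Φ) {h : Γ} (hh : h ∈ R.H) : ∀ y ∈ R.span A, h * y * h⁻¹ ∈ R.span A :=
  R.span_conj fun r hr y hy => R.U_le_span hr (R.H_conj_U h hh r y hy)

lemma n_conj_Udel (i : I) : ∀ y ∈ R.Udel i, R.n i * y * (R.n i)⁻¹ ∈ R.Udel i := by
  refine R.span_conj fun r hr y hy => R.U_le_span ?_ (R.n_conj_U i r y hy)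
  refine ⟨R.w_pos i r hr.1 hr.2, fun e => ?_⟩
  have e' := congrArg (R.w i) e
  rw [R.w_w, R.w_simple] at e'
  exact (R.pos_neg _).1 (e' ▸ hr.1) (R.pos_simple i)

lemma U_conj_Udel (i : I) {x : Γ} (hx : x ∈ R.U (R.simple i)) :
    ∀ y ∈ R.Udel i, x * y * x⁻¹ ∈ R.Udel i :=
  R.span_conj fun r hr y hy => R.U_conj i x hx r hr.1 hr.2 y hy

lemma Udel_le_Upos (i : I) : R.Udel i ≤ R.Upos := R.span_mono fun _ h => h.1

lemma Udel_le_B (i : I) : R.Udel i ≤ R.B := (R.Udel_le_Upos i).trans R.Upos_le_B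

lemma Upos_eq (i : I) : R.Upos = R.Udel i ⊔ R.U (R.simple i) := by
  classical
  refine le_antisymm (R.span_le fun r hr => ?_)
    (sup_le (R.Udel_le_Upos i) (R.U_le_Upos (R.pos_simple i)))
  by_cases h : r = R.simple i
  · exact h ▸ le_sup_right
  · exact le_sup_of_le_left (R.U_le_span ⟨hr, h⟩)

lemma exists_Upos {i : I} {u : Γ} (hu : u ∈ R.Upos) :
    ∃ k ∈ R.Udel i, ∃ a ∈ R.U (R.simple i), u = k * a :=
  exists_mul_of_mem_sup (fun _ hx => R.U_conj_Udel i hx) (R.Upos_eq i ▸ hu)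

lemma exists_B {b : Γ} (hb : b ∈ R.B) : ∃ u ∈ R.Upos, ∃ h ∈ R.H, b = u * h :=
  exists_mul_of_mem_sup (fun _ hx => R.H_conj_span _ hx) hb

lemma exists_B' (i : I) {b : Γ} (hb : b ∈ R.B) :
    ∃ k ∈ R.Udel i, ∃ a ∈ R.U (R.simple i), ∃ h ∈ R.H, b = k * a * h := by
  obtain ⟨u, hu, h, hh, rfl⟩ := R.exists_B hb
  obtain ⟨k, hk, a, ha, rfl⟩ := R.exists_Upos (i := i) hu
  exact ⟨k, hk, a, ha, h, hh, rfl⟩

/-- The axiom on double cosets. -/
theorem mul_mem_union (i : I) {b n : Γ} (hb : b ∈ R.B) (hn : n ∈ R.N) :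
    ∃ b₁ ∈ R.B, ∃ b₂ ∈ R.B, R.n i * b * n = b₁ * (R.n i * n) * b₂ ∨ R.n i * b * n = b₁ * n * b₂ := by
  obtain ⟨k, hk, a, ha, h, hh, rfl⟩ := R.exists_B' i hb
  -- move `h` to the left and `k` out
  obtain ⟨a', ha', rfl⟩ : ∃ a' ∈ R.U (R.simple i), a = h * a' * h⁻¹ :=
    ⟨h⁻¹ * a * h, R.conj_H_U' hh ha, by group⟩
  have hleft : R.n i * k * h * (R.n i)⁻¹ ∈ R.B := by
    rw [show R.n i * k * h * (R.n i)⁻¹ = (R.n i * k * (R.n i)⁻¹) * (R.n i * h * (R.n i)⁻¹) by group]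
    exact mul_mem (R.Udel_le_B i (R.n_conj_Udel i k hk)) (R.H_le_B (R.n_conj_H i h hh))
  suffices ∃ b₁ ∈ R.B, ∃ b₂ ∈ R.B,
      R.n i * a' * n = b₁ * (R.n i * n) * b₂ ∨ R.n i * a' * n = b₁ * n * b₂ by
    obtain ⟨b₁, hb₁, b₂, hb₂, e | e⟩ := this
    · exact ⟨_, mul_mem hleft hb₁, b₂, hb₂, Or.inl (by
        calc R.n i * (k * (h * a' * h⁻¹) * h) * n
            = (R.n i * k * h * (R.n i)⁻¹) * (R.n i * a' * n) := by group
          _ = _ := by rw [e]; group)⟩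
    · exact ⟨_, mul_mem hleft hb₁, b₂, hb₂, Or.inr (by
        calc R.n i * (k * (h * a' * h⁻¹) * h) * n
            = (R.n i * k * h * (R.n i)⁻¹) * (R.n i * a' * n) := by group
          _ = _ := by rw [e]; group)⟩
  obtain ⟨β, hβ⟩ := R.exists_map_conj (inv_mem hn) (R.simple i)
  obtain ⟨l₀, hl₀, l, hl⟩ := R.mem_N_iff.1 (inv_mem hn)
  by_cases hpos : R.pos (R.ww l (R.simple i))
  · -- `n⁻¹ U_α n` is positive
    have h1 := R.conj_U_mem (R.map_conj_H_nw hl₀ l (R.simple i)) ha'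
    rw [← hl, inv_inv] at h1
    exact ⟨1, one_mem _, n⁻¹ * a' * n, R.Upos_le_B (R.U_le_Upos hpos h1), Or.inl (by group)⟩
  · set y := R.n i * a' * (R.n i)⁻¹ with hy
    have hyV : y ∈ R.U (R.neg (R.simple i)) := R.conj_n_simple ha'
    by_cases hy1 : y = 1
    · exact ⟨1, one_mem _, 1, one_mem _, Or.inl (by
        rw [show R.n i * a' * n = y * (R.n i * n) by rw [hy]; group, hy1]; group)⟩
    obtain ⟨a₁, ha₁, h₁, hh₁, c, hc, e⟩ := R.rank_one i y hyV hy1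
    -- `(s n)⁻¹ c (s n)` is positive
    have hc' : (R.n i)⁻¹ * c * R.n i ∈ R.U (R.neg (R.simple i)) := R.conj_n_simple' hc
    have h1 := R.conj_U_mem (R.map_conj_H_nw hl₀ l (R.neg (R.simple i))) hc'
    rw [← hl, inv_inv] at h1
    refine ⟨a₁ * h₁ * (R.n i * R.n i),
      mul_mem (mul_mem (R.Upos_le_B (R.U_le_Upos (R.pos_simple i) ha₁)) (R.H_le_B hh₁))
        (R.H_le_B (R.n_sq i)), n⁻¹ * ((R.n i)⁻¹ * c * R.n i) * n,
      R.Upos_le_B (R.U_le_Upos ?_ h1), Or.inr ?_⟩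
    · rw [R.ww_neg, R.pos_neg]; exact hpos
    · rw [show R.n i * a' * n = y * (R.n i * n) by rw [hy]; group, e]; group

lemma conj_n_ne (i : I) :
    (fun b : Γ => R.n i * b * R.n i) '' (R.B : Set Γ) ≠ (R.B : Set Γ) := by
  intro h
  refine R.not_U_le_B (r := R.neg (R.simple i))
    (by rw [R.pos_neg]; exact not_not.2 (R.pos_simple i)) fun y hy => ?_
  have h1 : (R.n i)⁻¹ * y * R.n i ∈ R.U (R.simple i) := by
    have h2 := R.n_conj_U i _ y hy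
    rw [R.w_neg, R.w_simple, R.neg_neg] at h2
    simpa [mul_assoc] using R.H_conj_U _ (inv_mem (R.n_sq i)) _ _ h2
  have hb : (R.n i)⁻¹ * y * R.n i * (R.n i * R.n i)⁻¹ ∈ R.B :=
    mul_mem (R.Upos_le_B (R.U_le_Upos (R.pos_simple i) h1)) (R.H_le_B (inv_mem (R.n_sq i)))
  have h3 : R.n i * ((R.n i)⁻¹ * y * R.n i * (R.n i * R.n i)⁻¹) * R.n i ∈ (R.B : Set Γ) :=
    h ▸ ⟨_, hb, rfl⟩
  simpa [mul_assoc] using h3

lemma n_mem_G (i : I) : R.n i ∈ R.G := R.N_le_G (R.n_mem_N i)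

/-- The representative `n i` as an element of `G`. -/
def nG (i : I) : R.G := ⟨R.n i, R.n_mem_G i⟩

/-- The (B,N)-pair of root group data. -/
def bnPair : Cfsg.BNPair R.G where
  B := R.B.subgroupOf R.G
  N := R.N.subgroupOf R.G
  S := Set.range R.nG
  sup_eq_top := by
    rw [← Subgroup.subgroupOf_sup R.B_le_G R.N_le_G]
    exact Subgroup.subgroupOf_self R.G
  conj_mem n hn t ht := by
    rw [Subgroup.mem_subgroupOf] at hn ⊢
    have hH : (t : Γ) ∈ R.H := by rw [← R.B_inf_N]; exact ⟨ht.1, ht.2⟩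
    exact R.H_le_B (R.conj_H_mem hn hH)
  subset := by
    rintro _ ⟨i, rfl⟩
    exact R.n_mem_N i
  sq_mem := by
    rintro _ ⟨i, rfl⟩
    exact R.H_le_B (R.n_sq i)
  inj := by
    rintro _ ⟨i, rfl⟩ _ ⟨j, rfl⟩ h
    have h' : (R.n i)⁻¹ * R.n j ∈ R.H := by
      rw [← R.B_inf_N]
      exact Subgroup.mem_inf.2 ⟨h, mul_mem (inv_mem (R.n_mem_N i)) (R.n_mem_N j)⟩
    rw [R.n_inj h']
  closure_sup := by
    refine le_antisymm (sup_le ((Subgroup.closure_le _).2 ?_) inf_le_right) fun g hg => ?_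
    · rintro _ ⟨i, rfl⟩; exact R.n_mem_N i
    · obtain ⟨h, hh, l, e⟩ := R.mem_N_iff.1 hg
      have key : ∀ l : List I, ∃ x ∈ Subgroup.closure (Set.range R.nG), (x : Γ) = R.nw l := by
        intro l
        induction l with
        | nil => exact ⟨1, one_mem _, rfl⟩
        | cons a l ih =>
          obtain ⟨x, hx, ex⟩ := ih
          exact ⟨R.nG a * x, mul_mem (Subgroup.subset_closure ⟨a, rfl⟩) hx, by simp [nG, ex]⟩
      obtain ⟨x, hx, ex⟩ := key l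
      have : g = (⟨h, R.B_le_G (R.H_le_B hh)⟩ : R.G) * x := Subtype.ext (by simpa [ex] using e)
      rw [this]
      exact mul_mem (Subgroup.mem_sup_right ⟨R.H_le_B hh, R.H_le_N hh⟩)
        (Subgroup.mem_sup_left hx)
  mul_mem_union := by
    rintro _ ⟨i, rfl⟩ n hn b hb
    obtain ⟨b₁, hb₁, b₂, hb₂, e | e⟩ := R.mul_mem_union i hb hn
    · exact Or.inl (DoubleCoset.mem_doubleCoset.2
        ⟨⟨b₁, R.B_le_G hb₁⟩, hb₁, ⟨b₂, R.B_le_G hb₂⟩, hb₂, Subtype.ext e⟩)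
    · exact Or.inr (DoubleCoset.mem_doubleCoset.2
        ⟨⟨b₁, R.B_le_G hb₁⟩, hb₁, ⟨b₂, R.B_le_G hb₂⟩, hb₂, Subtype.ext e⟩)
  conj_ne := by
    rintro _ ⟨i, rfl⟩ h
    refine R.conj_n_ne i (Set.Subset.antisymm ?_ fun x hx => ?_)
    · rintro _ ⟨b, hb, rfl⟩
      have h1 : R.nG i * ⟨b, R.B_le_G hb⟩ * R.nG i ∈ (R.B.subgroupOf R.G : Set R.G) :=
        h ▸ ⟨⟨b, R.B_le_G hb⟩, hb, rfl⟩
      exact h1
    · have h1 : (⟨x, R.B_le_G hx⟩ : R.G) ∈ (R.B.subgroupOf R.G : Set R.G) := hx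
      rw [← h] at h1
      obtain ⟨b, hb, e⟩ := h1
      exact ⟨b, hb, congrArg Subtype.val e⟩

lemma bnPair_B : R.bnPair.B = R.B.subgroupOf R.G := rfl
lemma bnPair_N : R.bnPair.N = R.N.subgroupOf R.G := rfl
lemma bnPair_S : R.bnPair.S = Set.range R.nG := rfl

end RootData

end Cfsg.Agent.RGD
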