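import Cfsg.Agent.Lib.RGD.NormalForm

/-!
# Consequences of the normal form

* `cellSubgroup`, `coe_cellSubgroup` : `B ∪ B n i B` is a subgroup;
* `exists_conj_of_conj` : elements of `H` conjugate in `G` are conjugate in `N`;
* `exists_long` (finite root sets) and `map_conj_long` : opposition of `U` and `V`;
* `core_le`, `commute_of_core` : a normalised subgroup of `B` lies in `H` and centralises all root subgroups.
-/

set_option autoImplicit false

namespace Cfsg.Agent.RGD.RootData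

variable {Γ : Type*} [Group Γ] {Φ I : Type*} (R : RootData Γ Φ I)

/-- `B ∪ B n i B`. -/
def cellSubgroup (i : I) : Subgroup Γ where
  carrier := (R.B : Set Γ) ∪ DoubleCoset.doubleCoset (R.n i) (R.B : Set Γ) R.B
  one_mem' := Or.inl (one_mem R.B)
  mul_mem' := by
    rintro x y (hx | hx) (hy | hy)
    · exact Or.inl (mul_mem hx hy : x * y ∈ R.B)
    · obtain ⟨b, hb, b', hb', rfl⟩ := DoubleCoset.mem_doubleCoset.1 hy
      exact Or.inr (DoubleCoset.mem_doubleCoset.2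
        ⟨x * b, (mul_mem hx hb : x * b ∈ R.B), b', hb', by group⟩)
    · obtain ⟨b, hb, b', hb', rfl⟩ := DoubleCoset.mem_doubleCoset.1 hx
      exact Or.inr (DoubleCoset.mem_doubleCoset.2
        ⟨b, hb, b' * y, (mul_mem hb' hy : b' * y ∈ R.B), by group⟩)
    · obtain ⟨b, hb, b', hb', rfl⟩ := DoubleCoset.mem_doubleCoset.1 hx
      obtain ⟨c, hc, c', hc', rfl⟩ := DoubleCoset.mem_doubleCoset.1 hy
      have hbc : b' * c ∈ R.B := mul_mem hb' hc
      obtain ⟨b₁, h1, b₂, h2, e | e⟩ := R.mul_mem_union i hbc (R.n_mem_N i)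
      · refine Or.inl (?_ : b * R.n i * b' * (c * R.n i * c') ∈ R.B)
        rw [show b * R.n i * b' * (c * R.n i * c') = b * (R.n i * (b' * c) * R.n i) * c' by group, e]
        exact mul_mem (mul_mem hb (mul_mem (mul_mem h1 (R.H_le_B (R.n_sq i))) h2)) hc'
      · refine Or.inr (DoubleCoset.mem_doubleCoset.2
          ⟨b * b₁, (mul_mem hb h1 : b * b₁ ∈ R.B), b₂ * c', (mul_mem h2 hc' : b₂ * c' ∈ R.B), ?_⟩)
        rw [show b * R.n i * b' * (c * R.n i * c') = b * (R.n i * (b' * c) * R.n i) * c' by group, e]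
        group
  inv_mem' := by
    rintro x (hx | hx)
    · exact Or.inl (inv_mem hx : x⁻¹ ∈ R.B)
    · obtain ⟨b, hb, b', hb', rfl⟩ := DoubleCoset.mem_doubleCoset.1 hx
      have h2 : (R.n i * R.n i)⁻¹ ∈ R.B := inv_mem (R.H_le_B (R.n_sq i))
      exact Or.inr (DoubleCoset.mem_doubleCoset.2
        ⟨b'⁻¹ * (R.n i * R.n i)⁻¹, (mul_mem (inv_mem hb') h2 : _ ∈ R.B), b⁻¹,
          (inv_mem hb : _ ∈ R.B), by group⟩)

lemma coe_cellSubgroup (i : I) :
    (R.cellSubgroup i : Set Γ) = (R.B : Set Γ) ∪ DoubleCoset.doubleCoset (R.n i) (R.B : Set Γ) R.B :=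
  rfl

lemma exists_conj_of_conj {g h₁ h₂ : Γ} (h1 : h₁ ∈ R.H) (h2 : h₂ ∈ R.H) (hg : g ∈ R.G)
    (hc : g * h₁ * g⁻¹ = h₂) : ∃ n ∈ R.N, n * h₁ * n⁻¹ = h₂ := by
  obtain ⟨b, hb, l, u, hu, rfl⟩ := R.exists_normalForm hg
  set n := R.nw l with hn
  have hk : n * h₁ * n⁻¹ ∈ R.H := R.nw_conj_H l h1
  have hu' : h₁⁻¹ * u * h₁ ∈ R.Uminus l := by
    simpa [Uminus] using R.H_conj_span _ (inv_mem h1) _ hu
  have e : b * (n * h₁ * n⁻¹) * n * (h₁⁻¹ * u * h₁) = h₂ * b * n * u := by rw [← hc]; group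
  obtain ⟨e1, -⟩ := R.normalForm_unique (n := n) (k := 1) (one_mem _) (by simp [hn])
    (mul_mem hb (R.H_le_B hk)) (mul_mem (R.H_le_B h2) hb) hu' hu e
  obtain ⟨v, hv, h, hh, rfl⟩ := R.exists_B hb
  set k := n * h₁ * n⁻¹ with hkdef
  have hv' : h₂ * v * h₂⁻¹ ∈ R.Upos := R.H_conj_span _ h2 _ hv
  have key : v⁻¹ * (h₂ * v * h₂⁻¹) = h * k * h⁻¹ * h₂⁻¹ := by
    calc v⁻¹ * (h₂ * v * h₂⁻¹) = v⁻¹ * (h₂ * (v * h)) * h⁻¹ * h₂⁻¹ := by group
      _ = v⁻¹ * (v * h * k) * h⁻¹ * h₂⁻¹ := by rw [e1]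
      _ = _ := by group
  have h1' : h * k * h⁻¹ * h₂⁻¹ = 1 := by
    rw [← Subgroup.mem_bot, ← R.U_inf_H]
    exact ⟨key ▸ (mul_mem (inv_mem hv) hv' : _ ∈ R.Upos),
      (mul_mem (mul_mem (mul_mem hh hk) (inv_mem hh)) (inv_mem h2) : _ ∈ R.H)⟩
  refine ⟨h * n, mul_mem (R.H_le_N hh) (R.nw_mem_N l), ?_⟩
  rw [mul_inv_eq_one] at h1'
  rw [← h1', hkdef]
  group

/-! ### The opposition -/

lemma ww_reverse_ww (l : List I) (r : Φ) : R.ww l.reverse (R.ww l r) = r := by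
  induction l generalizing r with
  | nil => rfl
  | cons a l ih => rw [List.reverse_cons, ww_append, ww_cons, ww_nil, ww_cons, R.w_w, ih]

lemma ww_ww_reverse (l : List I) (r : Φ) : R.ww l (R.ww l.reverse r) = r := by
  simpa using R.ww_reverse_ww l.reverse r

/-- A word making every fundamental root negative. -/
lemma exists_long [Finite Φ] : ∃ l : List I, ∀ j, ¬ R.pos (R.ww l (R.simple j)) := by
  let N : List I → Set Φ := fun l => {r | R.pos r ∧ ¬ R.pos (R.ww l r)}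
  suffices ∀ (m : ℕ) (l : List I), Nat.card Φ ≤ (N l).ncard + m →
      ∃ l : List I, ∀ j, ¬ R.pos (R.ww l (R.simple j)) from this (Nat.card Φ) [] (by omega)
  intro m
  induction m with
  | zero =>
    intro l hl
    refine ⟨l, fun j hj => ?_⟩
    have hu : N l = Set.univ := Set.eq_univ_of_forall fun r => by
      by_contra hr
      have h1 : (N l).ncard < Nat.card Φ := by
        rw [← Set.ncard_univ]
        exact Set.ncard_lt_ncard (Set.ssubset_univ_iff.2 fun e => hr (e ▸ trivial)) Set.finite_univ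
      omega
    exact (hu ▸ Set.mem_univ (R.simple j) : R.simple j ∈ N l).2 hj
  | succ m ih =>
    intro l hl
    by_cases h : ∀ j, ¬ R.pos (R.ww l (R.simple j))
    · exact ⟨l, h⟩
    push Not at h
    obtain ⟨j, hj⟩ := h
    refine ih (l ++ [j]) ?_
    have hsub : insert (R.simple j) (R.w j '' N l) ⊆ N (l ++ [j]) := by
      rintro r (rfl | ⟨q, hq, rfl⟩)
      · refine ⟨R.pos_simple j, ?_⟩
        simp only [ww_append, ww_cons, ww_nil, R.w_simple, R.ww_neg, R.pos_neg, not_not]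
        exact hj
      · refine ⟨R.w_pos j q hq.1 fun e => hq.2 (e ▸ hj), ?_⟩
        simp only [ww_append, ww_cons, ww_nil, R.w_w]
        exact hq.2
    have hnot : R.simple j ∉ R.w j '' N l := by
      rintro ⟨q, hq, e⟩
      have e' := congrArg (R.w j) e
      rw [R.w_w, R.w_simple] at e'
      exact (R.pos_neg _).1 (e' ▸ hq.1) (R.pos_simple j)
    have := Set.ncard_le_ncard hsub (Set.toFinite _)
    rw [Set.ncard_insert_of_notMem hnot (Set.toFinite _),
      Set.ncard_image_of_injective _ (Function.Involutive.injective (R.w_w j))] at this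
    omega

lemma map_conj_long {l : List I} (hl : ∀ r, R.pos r → ¬ R.pos (R.ww l r)) :
    R.Upos.map (MulAut.conj (R.nw l)).toMonoidHom = R.Vneg := by
  refine le_antisymm (Subgroup.map_le_iff_le_comap.2 (R.span_le fun r hr x hx => ?_))
    (R.span_le fun r hr => ?_)
  · exact R.U_le_Vneg (hl r hr) (R.conj_U_mem (R.map_conj_U l r) hx)
  · have hq : R.pos (R.ww l.reverse r) := by
      by_contra hq
      have h := hl _ ((R.pos_neg _).2 hq)
      rw [R.ww_neg, R.ww_ww_reverse, R.pos_neg, not_not] at h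
      exact hr h
    have h := R.map_conj_U l (R.ww l.reverse r)
    rw [R.ww_ww_reverse] at h
    rw [← h]
    exact Subgroup.map_mono (R.U_le_Upos hq)

variable {l : List I} (hl : ∀ r, R.pos r → ¬ R.pos (R.ww l r)) {K : Subgroup Γ} (hK : K ≤ R.B)
  (hn : ∀ g ∈ R.G, ∀ x ∈ K, g * x * g⁻¹ ∈ K)

include hl hK hn

lemma core_le : K ≤ R.H := by
  intro x hx
  obtain ⟨v, hv, h, hh, rfl⟩ := R.exists_B (hK hx)
  have h1 : R.nw l * v * (R.nw l)⁻¹ = 1 := by
    rw [← Subgroup.mem_bot, ← R.B_inf_V]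
    refine ⟨?_, (show R.nw l * v * (R.nw l)⁻¹ ∈ R.Vneg from R.map_conj_long hl ▸ ⟨v, hv, rfl⟩)⟩
    rw [show R.nw l * v * (R.nw l)⁻¹ =
      (R.nw l * (v * h) * (R.nw l)⁻¹) * (R.nw l * h * (R.nw l)⁻¹)⁻¹ by group]
    exact (mul_mem (hK (hn _ (R.N_le_G (R.nw_mem_N l)) _ hx))
      (inv_mem (R.H_le_B (R.nw_conj_H l hh))) : _ ∈ R.B)
  rw [conj_eq_one_iff] at h1
  rw [h1, one_mul]
  exact hh

lemma commute_of_core {x : Γ} (hx : x ∈ K) (r : Φ) {y : Γ} (hy : y ∈ R.U r) : x * y = y * x := by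
  have key : ∀ q, R.pos q → ∀ z ∈ R.U q, ∀ k ∈ K, k * z = z * k := by
    intro q hq z hz k hk
    have h2 : z * k * z⁻¹ * k⁻¹ = 1 := by
      rw [← Subgroup.mem_bot, ← R.U_inf_H]
      refine ⟨?_, (mul_mem (R.core_le hl hK hn (hn _ (R.B_le_G (R.Upos_le_B (R.U_le_Upos hq hz))) _ hk))
        (inv_mem (R.core_le hl hK hn hk)) : _ ∈ R.H)⟩
      rw [show z * k * z⁻¹ * k⁻¹ = z * (k * z⁻¹ * k⁻¹) by group]
      exact (mul_mem (R.U_le_Upos hq hz) (R.U_le_Upos hq
        (R.H_conj_U _ (R.core_le hl hK hn hk) q _ (inv_mem hz))) : _ ∈ R.Upos)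
    rw [mul_inv_eq_one, mul_inv_eq_iff_eq_mul] at h2
    exact h2.symm
  by_cases hr : R.pos r
  · exact key r hr y hy x hx
  · have hy' : y ∈ R.Upos.map (MulAut.conj (R.nw l)).toMonoidHom :=
      R.map_conj_long hl ▸ R.U_le_Vneg hr hy
    obtain ⟨z, hz, rfl⟩ := hy'
    have hx' : (R.nw l)⁻¹ * x * R.nw l ∈ K := by
      simpa using hn _ (inv_mem (R.N_le_G (R.nw_mem_N l))) x hx
    have hle : R.Upos ≤ Subgroup.centralizer {(R.nw l)⁻¹ * x * R.nw l} :=
      R.span_le fun q hq w hw => Subgroup.mem_centralizer_singleton_iff.2 (key q hq w hw _ hx').symm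
    have h2 := Subgroup.mem_centralizer_singleton_iff.1 (hle hz)
    show x * (R.nw l * z * (R.nw l)⁻¹) = R.nw l * z * (R.nw l)⁻¹ * x
    calc x * (R.nw l * z * (R.nw l)⁻¹) = R.nw l * ((R.nw l)⁻¹ * x * R.nw l * z) * (R.nw l)⁻¹ := by
          group
      _ = _ := by rw [← h2]; group

end Cfsg.Agent.RGD.RootData
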