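import Cfsg.Agent.Lib.RGD.NormalForm

/-!
# Regular elements of the positive unipotent subgroup

* `U_inf_Udel` : `U_i` meets `Udel i` trivially;
* `conj_Udel` : `Upos` normalises `Udel i`;
* `mem_Udel_of_conj` : if `n p n⁻¹` stays positive, `p` has no part at the fundamental roots made negative;
* `regular_mem_B` : an element of `G` conjugating a regular element of `Upos` into `Upos` lies in `B`.
-/

set_option autoImplicit false

namespace Cfsg.Agent.RGD.RootData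

variable {Γ : Type*} [Group Γ] {Φ I : Type*} (R : RootData Γ Φ I)

lemma eq_one_of_B_Vneg {x : Γ} (h1 : x ∈ R.B) (h2 : x ∈ R.Vneg) : x = 1 := by
  rw [← Subgroup.mem_bot, ← R.B_inf_V]
  exact ⟨h1, h2⟩

lemma U_inf_Udel (i : I) {x : Γ} (hx : x ∈ R.U (R.simple i)) (hd : x ∈ R.Udel i) : x = 1 :=
  conj_eq_one_iff.1 (R.eq_one_of_B_Vneg (R.Udel_le_B i (R.n_conj_Udel i x hd))
    (R.U_le_Vneg (by rw [R.pos_neg]; exact not_not.2 (R.pos_simple i)) (R.conj_n_simple hx)))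

lemma conj_Udel (i : I) {v : Γ} (hv : v ∈ R.Upos) {y : Γ} (hy : y ∈ R.Udel i) :
    v * y * v⁻¹ ∈ R.Udel i := by
  obtain ⟨k, hk, a, ha, rfl⟩ := R.exists_Upos (i := i) hv
  rw [show k * a * y * (k * a)⁻¹ = k * (a * y * a⁻¹) * k⁻¹ by group]
  exact mul_mem (mul_mem hk (R.U_conj_Udel i ha y hy)) (inv_mem hk)

lemma mem_H_of_simple {l : List I} (h : ∀ j, R.pos (R.ww l (R.simple j))) : R.nw l ∈ R.H := by
  induction hn : l.length using Nat.strong_induction_on generalizing l with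
  | _ q ih =>
    rcases List.eq_nil_or_concat' l with rfl | ⟨l, j, rfl⟩
    · exact one_mem _
    have h1 := h j
    rw [R.ww_append, R.ww_cons, R.ww_nil, R.w_simple, R.ww_neg, R.pos_neg] at h1
    obtain ⟨l', hlen, k, hk, e⟩ := R.exists_shorter h1
    rw [e]
    exact mul_mem hk (ih l'.length (by subst hn; simp; omega)
      (fun r => (R.pos_ww_congr hk e (R.simple r)).1 (h r)) rfl)

lemma mem_Udel_of_conj {l : List I} {i : I} (h : ¬ R.pos (R.ww l (R.simple i))) {p : Γ} (hp : p ∈ R.Upos)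
    (hp' : R.nw l * p * (R.nw l)⁻¹ ∈ R.Upos) : p ∈ R.Udel i := by
  set l'' := l ++ [i] with hl''
  have h'' : R.pos (R.ww l'' (R.simple i)) := by
    rw [hl'', R.ww_append, R.ww_cons, R.ww_nil, R.w_simple, R.ww_neg, R.pos_neg]
    exact h
  obtain ⟨k, hk, a, ha, rfl⟩ := R.exists_Upos (i := i) hp
  -- pass the fundamental reflection
  set k' := (R.n i)⁻¹ * k * R.n i with hk'
  set c := (R.n i)⁻¹ * a * R.n i with hc
  have hcU : c ∈ R.U (R.neg (R.simple i)) := R.conj_n_simple' ha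
  obtain ⟨q, hq, hq', m, hm, e⟩ := R.exists_split l'' (R.Udel_le_Upos i (R.Udel_conj_n' i hk) : k' ∈ R.Upos)
  have e1 : R.nw l * (k * a) * (R.nw l)⁻¹ =
      R.nw l'' * q * (R.nw l'')⁻¹ * (R.nw l'' * (m * c) * (R.nw l'')⁻¹) := by
    rw [hl'', R.nw_append, R.nw_cons, R.nw_nil, mul_one,
      show R.nw l * R.n i * q * (R.nw l * R.n i)⁻¹ * (R.nw l * R.n i * (m * c) * (R.nw l * R.n i)⁻¹) =
        R.nw l * R.n i * ((q * m) * c) * (R.nw l * R.n i)⁻¹ by group, ← e, hk', hc]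
    group
  have hV : R.nw l'' * (m * c) * (R.nw l'')⁻¹ ∈ R.Vneg := by
    rw [show R.nw l'' * (m * c) * (R.nw l'')⁻¹ =
      R.nw l'' * m * (R.nw l'')⁻¹ * (R.nw l'' * c * (R.nw l'')⁻¹) by group]
    refine mul_mem (R.conj_Uminus l'' m hm) (R.U_le_Vneg ?_ (R.conj_U_mem (R.map_conj_U l'' _) hcU))
    rw [R.ww_neg, R.pos_neg]
    exact not_not.2 h''
  have hmc : m * c = 1 := by
    refine conj_eq_one_iff.1 (R.eq_one_of_B_Vneg ?_ hV)
    rw [e1] at hp'
    exact R.Upos_le_B ((Subgroup.mul_mem_cancel_left _ hq').1 hp')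
  have hc1 : c = 1 := by
    refine R.eq_one_of_B_Vneg ?_ (R.U_le_Vneg (by rw [R.pos_neg]; exact not_not.2 (R.pos_simple i)) hcU)
    rw [eq_inv_of_mul_eq_one_right hmc]
    exact inv_mem (R.Upos_le_B (R.Uminus_le_Upos l'' hm))
  have ha1 : a = 1 := by
    rw [show a = R.n i * c * (R.n i)⁻¹ by rw [hc]; group, hc1]
    group
  rw [ha1, mul_one]
  exact hk

/-- An element of `G` conjugating a regular element of `Upos` into `Upos` lies in `B`. -/
theorem regular_mem_B {u g : Γ} (hu : u ∈ R.Upos) (hreg : ∀ i, u ∉ R.Udel i) (hg : g ∈ R.G)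
    (hgu : g * u * g⁻¹ ∈ R.Upos) : g ∈ R.B := by
  obtain ⟨b, hb, l, v, hv, rfl⟩ := R.exists_normalForm hg
  have hvU := R.Uminus_le_Upos l hv
  set u' := v * u * v⁻¹ with hu'
  have hu'U : u' ∈ R.Upos := mul_mem (mul_mem hvU hu) (inv_mem hvU)
  have hn : R.nw l * u' * (R.nw l)⁻¹ ∈ R.Upos := by
    obtain ⟨x, hx, h, hh, rfl⟩ := R.exists_B hb
    have e : R.nw l * u' * (R.nw l)⁻¹ =
        h⁻¹ * (x⁻¹ * (x * h * R.nw l * v * u * (x * h * R.nw l * v)⁻¹) * x) * (h⁻¹)⁻¹ := by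
      rw [hu']; group
    rw [e]
    exact R.H_conj_span _ (inv_mem hh) _ (mul_mem (mul_mem (inv_mem hx) hgu) hx)
  refine mul_mem (mul_mem hb (R.H_le_B (R.mem_H_of_simple fun i => ?_))) (R.Upos_le_B hvU)
  by_contra hneg
  refine hreg i ?_
  have h1 := R.conj_Udel i (inv_mem hvU) (R.mem_Udel_of_conj hneg hu'U hn)
  rwa [show v⁻¹ * u' * v⁻¹⁻¹ = u by rw [hu']; group] at h1

end Cfsg.Agent.RGD.RootData
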