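/-
Automorphisms of a group with root group data, read off the fundamental root groups and the torus.

* `exists_sylow_conj` : `U` is carried to a conjugate of `U`;
* `image_n` : an automorphism fixing `U_{±i}` and `H` as sets sends `n i` to `n i · j`, `j ∈ H`;
* `fix_n`, `eq_one_of_fix` : fixing the fundamental `U_i` and `H` pointwise forces the identity;
* `mem_H_of_maps` : an element normalising `U` and `V` lies in `H`.
-/
import Cfsg.Agent.Lib.ChevAut.RGDAut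
import Cfsg.Agent.EqLemmas
import Mathlib.GroupTheory.Nilpotent

set_option autoImplicit false

namespace Cfsg.Agent.RGD.AutFix

open Cfsg.Agent.ChevAut (Maps)

variable {Γ : Type*} [Group Γ] {Φ I : Type*} (R : RootData Γ Φ I)

theorem exists_sylow_conj [Finite Γ] {p : ℕ} [hp : Fact p.Prime] (hU : IsPGroup p R.Upos) {N : ℕ}
    (hN : Nat.Coprime p N) (hH : ∀ h ∈ R.H, h ^ N = 1) (θ : R.G ≃* R.G) :
    ∃ g ∈ R.G, Maps θ R.Upos (R.Upos.map (MulAut.conj g).toMonoidHom) := by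
  classical
  haveI := Fintype.ofFinite Γ
  set U := R.Upos.subgroupOf R.G with hUdef
  have hUle : R.Upos ≤ R.G := R.Upos_le_B.trans R.B_le_G
  have hP : IsPGroup p U := hU.of_equiv (Subgroup.subgroupOfEquivOfLe hUle).symm
  have hsyl : ∀ {Q : Subgroup R.G}, IsPGroup p Q → U ≤ Q → Q = U := by
    intro Q hQ hle
    by_contra hne
    haveI := hQ.isNilpotent
    set U' := U.subgroupOf Q
    have hlt : U' < ⊤ := lt_top_iff_ne_top.2 fun e =>
      hne (le_antisymm ((Subgroup.subgroupOf_eq_top.1 e)) hle)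
    obtain ⟨-, g, hgN, hgU⟩ := SetLike.lt_iff_le_and_exists.1
      (Group.normalizerCondition_of_isNilpotent U' hlt)
    apply hgU
    set x : Γ := ((g : R.G) : Γ) with hx
    have hxN : x ∈ Subgroup.normalizer (R.Upos : Set Γ) := by
      refine Subgroup.mem_normalizer_fintype fun y hy => ?_
      exact (Subgroup.mem_normalizer_iff.1 hgN ⟨⟨y, hUle hy⟩, hle hy⟩).1 hy
    have hxB : x ∈ R.B := by
      rw [← ChevAut.normalizer_Upos R]
      exact Subgroup.mem_inf.2 ⟨hxN, (g : R.G).2⟩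
    obtain ⟨u, hu, h, hh, e⟩ := R.exists_B hxB
    have hhG : h ∈ R.G := R.B_le_G (R.H_le_B hh)
    obtain ⟨j, hj⟩ : ∃ j, h ^ (p ^ j) = 1 := by
      have hhQ : (⟨h, hhG⟩ : R.G) ∈ Q := by
        have h1 := mul_mem (inv_mem (hle (show (⟨u, hUle hu⟩ : R.G) ∈ U from hu))) g.2
        convert h1 using 1
        ext1
        show h = u⁻¹ * x
        rw [e]; group
      obtain ⟨j, hj⟩ := hQ ⟨_, hhQ⟩
      exact ⟨j, congrArg Subtype.val (congrArg Subtype.val hj)⟩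
    have h1 : h = 1 := by
      rw [← orderOf_eq_one_iff]
      exact Nat.eq_one_of_dvd_coprimes (hN.pow_left j) (orderOf_dvd_of_pow_eq_one hj)
        (orderOf_dvd_of_pow_eq_one (hH h hh))
    show x ∈ R.Upos
    rw [e, h1, mul_one]
    exact hu
  let P : Sylow p R.G := ⟨U, hP, fun hQ hle => hsyl hQ hle⟩
  obtain ⟨Q, hQ⟩ := (P.isPGroup'.map θ.toMonoidHom).exists_le_sylow
  obtain ⟨g, hg⟩ := MulAction.exists_smul_eq R.G P Q
  have hQg : (Q : Subgroup R.G) = U.map (MulAut.conj g).toMonoidHom := by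
    rw [← hg]; rfl
  have heq : U.map θ.toMonoidHom = (Q : Subgroup R.G) := by
    refine Subgroup.eq_of_le_of_card_ge hQ (le_of_eq ?_)
    rw [hQg, Subgroup.card_map_of_injective (MulEquiv.injective _),
      Subgroup.card_map_of_injective θ.injective]
  refine ⟨g, g.2, fun y => ?_⟩
  have h1 : (θ y ∈ U.map θ.toMonoidHom) ↔ (y : Γ) ∈ R.Upos := by
    rw [Subgroup.mem_map_equiv, θ.symm_apply_apply]; rfl
  rw [← h1, heq, hQg, Subgroup.mem_map_equiv, RootData.mem_map_conj]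
  simp [hUdef, Subgroup.mem_subgroupOf]

theorem U_le_G_simple (i : I) : R.U (R.simple i) ≤ R.G :=
  ((R.U_le_Upos (R.pos_simple i)).trans R.Upos_le_B).trans R.B_le_G

theorem n_mem_G' (i : I) : R.n i ∈ R.G := R.N_le_G (R.n_mem_N i)

theorem U_le_G_neg (i : I) : R.U (R.neg (R.simple i)) ≤ R.G := by
  rw [← R.w_simple, ← R.map_conj_n]
  exact ChevAut.map_conj_le (n_mem_G' R i) (U_le_G_simple R i)

theorem H_le_G : R.H ≤ R.G := R.H_le_B.trans R.B_le_G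

variable {θ : R.G ≃* R.G} {i : I}

/-- The image of `n i`. -/
theorem image_n (hp : Maps θ (R.U (R.simple i)) (R.U (R.simple i)))
    (hm : Maps θ (R.U (R.neg (R.simple i))) (R.U (R.neg (R.simple i)))) (hH : Maps θ R.H R.H) :
    ∃ j ∈ R.H, ((θ ⟨R.n i, n_mem_G' R i⟩ : R.G) : Γ) = R.n i * j := by
  set n : R.G := ⟨R.n i, n_mem_G' R i⟩
  have hL : R.L i ≤ R.G := sup_le (sup_le (U_le_G_simple R i) (U_le_G_neg R i)) (H_le_G R)
  have hLmap : ∀ x (hx : x ∈ R.L i), ((θ ⟨x, hL hx⟩ : R.G) : Γ) ∈ R.L i := by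
    have h : R.L i ≤ ((R.L i).subgroupOf R.G |>.comap θ.toMonoidHom).map R.G.subtype := by
      refine sup_le (sup_le ?_ ?_) ?_ <;> intro x hx
      · exact ⟨⟨x, U_le_G_simple R i hx⟩,
          Subgroup.mem_sup_left (Subgroup.mem_sup_left (hp.mem hx (U_le_G_simple R i hx))), rfl⟩
      · exact ⟨⟨x, U_le_G_neg R i hx⟩,
          Subgroup.mem_sup_left (Subgroup.mem_sup_right (hm.mem hx (U_le_G_neg R i hx))), rfl⟩
      · exact ⟨⟨x, H_le_G R hx⟩, Subgroup.mem_sup_right (hH.mem hx (H_le_G R hx)), rfl⟩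
    intro x hx
    obtain ⟨y, hy, rfl⟩ := h hx
    exact hy
  set g : Γ := ((θ n : R.G) : Γ)
  have e : θ.symm.trans ((MulAut.conj n).trans θ) = MulAut.conj (θ n) := by
    ext y; simp
  have hc1 : Maps (MulAut.conj n) (R.U (R.simple i)) (R.U (R.neg (R.simple i))) := by
    have := Maps.conj_map n (R.U (R.simple i))
    rwa [show (n : Γ) = R.n i from rfl, R.map_conj_n, R.w_simple] at this
  have hc2 : Maps (MulAut.conj n) (R.U (R.neg (R.simple i))) (R.U (R.simple i)) := by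
    have := Maps.conj_map n (R.U (R.neg (R.simple i)))
    rwa [show (n : Γ) = R.n i from rfl, R.map_conj_n, R.w_neg, R.w_simple, R.neg_neg] at this
  have h1 : (R.U (R.simple i)).map (MulAut.conj g).toMonoidHom = R.U (R.neg (R.simple i)) :=
    (Maps.conj_map _ _).unique (e ▸ (hp.symm.trans (hc1.trans hm)))
      (ChevAut.map_conj_le (θ n).2 (U_le_G_simple R i)) (U_le_G_neg R i)
  have h2 : (R.U (R.neg (R.simple i))).map (MulAut.conj g).toMonoidHom = R.U (R.simple i) :=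
    (Maps.conj_map _ _).unique (e ▸ (hm.symm.trans (hc2.trans hp)))
      (ChevAut.map_conj_le (θ n).2 (U_le_G_neg R i)) (U_le_G_simple R i)
  obtain ⟨h, hh, hg⟩ := R.mem_H_mul_n (hLmap _ (R.n_mem i)) h1 h2
  exact ⟨(R.n i)⁻¹ * h * R.n i, R.n_conj_H' i hh, hg.trans (by group)⟩

variable (hcomm : ∀ a ∈ R.H, ∀ b ∈ R.H, a * b = b * a)
include hcomm

/-- Fixing `U_i` and `H` pointwise fixes `n i`. -/
theorem fix_n (hm : Maps θ (R.U (R.neg (R.simple i))) (R.U (R.neg (R.simple i))))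
    (fU : ∀ x : R.G, (x : Γ) ∈ R.U (R.simple i) → θ x = x) (fH : ∀ x : R.G, (x : Γ) ∈ R.H → θ x = x) :
    θ ⟨R.n i, n_mem_G' R i⟩ = ⟨R.n i, n_mem_G' R i⟩ := by
  have hp : Maps θ (R.U (R.simple i)) (R.U (R.simple i)) := fun x =>
    ⟨fun hx => by rw [fU x hx]; exact hx, fun hx => by
      have h2 := fU _ hx
      rw [θ.apply_eq_iff_eq] at h2
      rwa [h2] at hx⟩
  have hH : Maps θ R.H R.H := fun x =>
    ⟨fun hx => by rw [fH x hx]; exact hx, fun hx => by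
      have h2 := fH _ hx
      rw [θ.apply_eq_iff_eq] at h2
      rwa [h2] at hx⟩
  obtain ⟨j, hj, ej⟩ := image_n R hp hm hH
  set n : R.G := ⟨R.n i, n_mem_G' R i⟩
  obtain ⟨x, hx, hx1⟩ : ∃ x ∈ R.U (R.simple i), x ≠ 1 := by
    obtain ⟨⟨x, hx⟩, h⟩ := Subgroup.ne_bot_iff_exists_ne_one.1 (R.U_ne_bot (R.simple i))
    exact ⟨x, hx, fun e => h (Subtype.ext e)⟩
  have hy : R.n i * x * (R.n i)⁻¹ ∈ R.U (R.neg (R.simple i)) := by
    rw [← R.w_simple]; exact R.n_conj_U i _ x hx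
  obtain ⟨a, ha, h, hh, c, hc, e⟩ := R.rank_one i _ hy fun e => hx1 (conj_eq_one_iff.1 e)
  have hG := U_le_G_simple R i
  have e1 : n * ⟨x, hG hx⟩ * n⁻¹ = ⟨a, hG ha⟩ * ⟨h, H_le_G R hh⟩ * n * ⟨c, hG hc⟩ := Subtype.ext e
  have e2 := congrArg θ e1
  simp only [map_mul, map_inv, fU ⟨x, hG hx⟩ hx, fU ⟨a, hG ha⟩ ha, fU ⟨c, hG hc⟩ hc,
    fH ⟨h, H_le_G R hh⟩ hh] at e2
  have e3 := congrArg Subtype.val e2
  simp only [Subgroup.coe_mul, Subgroup.coe_inv, ej] at e3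
  -- `k j n = n j`
  set k := R.n i * j * (R.n i)⁻¹ with hk
  have hkH : k ∈ R.H := R.n_conj_H i j hj
  have e4 : k * a * k⁻¹ * (k * h * (R.n i * k⁻¹ * (R.n i)⁻¹)) * R.n i * (k * c * k⁻¹) =
      a * (h * k) * R.n i * c := by
    calc k * a * k⁻¹ * (k * h * (R.n i * k⁻¹ * (R.n i)⁻¹)) * R.n i * (k * c * k⁻¹)
        = k * (a * h * R.n i * c) * k⁻¹ := by group
      _ = R.n i * j * x * (R.n i * j)⁻¹ := by rw [← e, hk]; group
      _ = a * h * (R.n i * j) * c := e3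
      _ = _ := by rw [hk]; group
  have hwH : R.n i * k⁻¹ * (R.n i)⁻¹ ∈ R.H := R.n_conj_H i _ (inv_mem hkH)
  have hneg : ¬ R.pos (R.ww [i] (R.simple i)) := by
    rw [R.ww_cons, R.ww_nil, R.w_simple]; exact fun h => (R.pos_neg _).1 h (R.pos_simple i)
  have hUm : ∀ {z : Γ}, z ∈ R.U (R.simple i) → z ∈ R.Uminus [i] := fun hz =>
    R.U_le_span (A := {r | R.pos r ∧ ¬ R.pos (R.ww [i] r)}) ⟨R.pos_simple i, hneg⟩ hz
  have hka : k * a * k⁻¹ ∈ R.U (R.simple i) := R.H_conj_U k hkH _ a ha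
  have hB1 : k * a * k⁻¹ * (k * h * (R.n i * k⁻¹ * (R.n i)⁻¹)) ∈ R.B :=
    mul_mem (R.Upos_le_B (R.U_le_Upos (R.pos_simple i) hka)) (R.H_le_B (mul_mem (mul_mem hkH hh) hwH))
  have hB2 : a * (h * k) ∈ R.B :=
    mul_mem (R.Upos_le_B (R.U_le_Upos (R.pos_simple i) ha)) (R.H_le_B (mul_mem hh hkH))
  obtain ⟨e5, -⟩ := R.normalForm_unique (l := [i]) (k := 1) (n := R.n i) (one_mem _) (by simp) hB1 hB2
    (hUm (R.H_conj_U k hkH _ c hc)) (hUm hc) e4
  have h6 : (k * a * k⁻¹)⁻¹ * a = (k * h * (R.n i * k⁻¹ * (R.n i)⁻¹)) * (h * k)⁻¹ := by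
    calc (k * a * k⁻¹)⁻¹ * a = (k * a * k⁻¹)⁻¹ * (a * (h * k)) * (h * k)⁻¹ := by group
      _ = _ := by rw [← e5]; group
  have h7 : (k * h * (R.n i * k⁻¹ * (R.n i)⁻¹)) * (h * k)⁻¹ = 1 := by
    rw [← Subgroup.mem_bot, ← R.U_inf_H]
    refine Subgroup.mem_inf.2 ⟨?_, mul_mem (mul_mem (mul_mem hkH hh) hwH) (inv_mem (mul_mem hh hkH))⟩
    rw [← h6]
    exact mul_mem (inv_mem (R.U_le_Upos (R.pos_simple i) hka)) (R.U_le_Upos (R.pos_simple i) ha)
  rw [mul_inv_eq_one, hcomm k hkH h hh, mul_eq_left, conj_eq_one_iff, inv_eq_one] at h7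
  rw [hk, conj_eq_one_iff] at h7
  refine Subtype.ext ?_
  rw [ej, h7, mul_one]

/-- Fixing the fundamental root groups and `H` pointwise forces the identity. -/
theorem eq_one_of_fix (hreach : ∀ r, R.pos r → ∃ l i, R.ww l (R.simple i) = r)
    (hm : ∀ i, Maps θ (R.U (R.neg (R.simple i))) (R.U (R.neg (R.simple i))))
    (fU : ∀ i, ∀ x : R.G, (x : Γ) ∈ R.U (R.simple i) → θ x = x) (fH : ∀ x : R.G, (x : Γ) ∈ R.H → θ x = x) :
    ∀ x, θ x = x := by
  let S : Subgroup R.G := MonoidHom.eqLocus θ.toMonoidHom (MonoidHom.id _)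
  let F : Subgroup Γ := S.map R.G.subtype
  have hH : R.H ≤ F := fun x hx => ⟨⟨x, H_le_G R hx⟩, fH ⟨x, H_le_G R hx⟩ hx, rfl⟩
  have hn : ∀ i, R.n i ∈ F := fun i =>
    ⟨⟨R.n i, n_mem_G' R i⟩, fix_n R hcomm (hm i) (fU i) fH, rfl⟩
  have hnw : ∀ l : List I, R.nw l ∈ F := by
    intro l
    induction l with
    | nil => exact one_mem _
    | cons a l ih => rw [R.nw_cons]; exact mul_mem (hn a) ih
  have hU : R.Upos ≤ F := R.span_le fun r hr => by
    obtain ⟨l, i, rfl⟩ := hreach r hr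
    rw [← R.map_conj_U]
    exact ChevAut.map_conj_le (hnw l) fun x hx => ⟨⟨x, U_le_G_simple R i hx⟩, fU i _ hx, rfl⟩
  have hG : R.G ≤ F := sup_le (sup_le hU hH) (sup_le hH ((Subgroup.closure_le _).2 (by
    rintro _ ⟨i, rfl⟩
    exact hn i)))
  intro x
  obtain ⟨y, hy, e⟩ := hG x.2
  obtain rfl : y = x := Subtype.ext e
  exact hy

omit hcomm

theorem mem_H_of_maps [Finite Γ] {l : List I} (hl : ∀ r, R.pos r → ¬ R.pos (R.ww l r)) {g : Γ} (hg : g ∈ R.G)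
    (hU : ∀ y ∈ R.Upos, g * y * g⁻¹ ∈ R.Upos) (hV : ∀ y ∈ R.Vneg, g * y * g⁻¹ ∈ R.Vneg) : g ∈ R.H := by
  haveI := Fintype.ofFinite Γ
  rw [← ChevAut.normalizer_Vneg_inf_B R hl, ← ChevAut.normalizer_Upos R]
  exact Subgroup.mem_inf.2 ⟨Subgroup.mem_normalizer_fintype hV,
    Subgroup.mem_inf.2 ⟨Subgroup.mem_normalizer_fintype hU, hg⟩⟩

end Cfsg.Agent.RGD.AutFix
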