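import Cfsg.Agent.Lib.BN.Bruhat

/-!
# Root group data

An `RootData Γ Φ I` consists of root subgroups `U r`, a torus `H` and representatives `n i` of the
fundamental reflections `w i`, subject to the usual axioms. Main results of this file:
* `map_conj_U`, `U_le_B_iff` : conjugation by words, `U r ≤ B ↔ pos r`;
* `conj_n_mem` : transfer of representatives along the action on roots;
* `exists_shorter`, `mem_H_of_pos` : deletion, `B ⊓ N = H`.
-/

set_option autoImplicit false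

namespace Cfsg.Agent.RGD

/-- Root group data in a group `Γ` with root set `Φ` and fundamental roots indexed by `I`. -/
structure RootData (Γ : Type*) [Group Γ] (Φ I : Type*) where
  U : Φ → Subgroup Γ
  H : Subgroup Γ
  n : I → Γ
  simple : I → Φ
  pos : Φ → Prop
  neg : Φ → Φ
  w : I → Φ → Φ
  neg_neg : ∀ r, neg (neg r) = r
  pos_neg : ∀ r, pos (neg r) ↔ ¬ pos r
  pos_simple : ∀ i, pos (simple i)
  simple_inj : Function.Injective simple
  w_simple : ∀ i, w i (simple i) = neg (simple i)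
  w_pos : ∀ i r, pos r → r ≠ simple i → pos (w i r)
  w_neg : ∀ i r, w i (neg r) = neg (w i r)
  w_w : ∀ i r, w i (w i r) = r
  H_conj_U : ∀ h ∈ H, ∀ r, ∀ x ∈ U r, h * x * h⁻¹ ∈ U r
  n_conj_U : ∀ i r, ∀ x ∈ U r, n i * x * (n i)⁻¹ ∈ U (w i r)
  n_conj_H : ∀ i, ∀ h ∈ H, n i * h * (n i)⁻¹ ∈ H
  n_sq : ∀ i, n i * n i ∈ H
  n_mem : ∀ i, n i ∈ U (simple i) ⊔ U (neg (simple i)) ⊔ H
  U_conj : ∀ i, ∀ x ∈ U (simple i), ∀ r, pos r → r ≠ simple i → ∀ y ∈ U r,
    x * y * x⁻¹ ∈ ⨆ s ∈ {s : Φ | pos s ∧ s ≠ simple i}, U s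
  rank_one : ∀ i, ∀ y ∈ U (neg (simple i)), y ≠ 1 →
    ∃ a ∈ U (simple i), ∃ h ∈ H, ∃ c ∈ U (simple i), y = a * h * n i * c
  U_ne_bot : ∀ r, U r ≠ ⊥
  B_inf_V : ((⨆ s ∈ {s : Φ | pos s}, U s) ⊔ H) ⊓ (⨆ s ∈ {s : Φ | ¬ pos s}, U s) = ⊥
  U_inf_H : (⨆ s ∈ {s : Φ | pos s}, U s) ⊓ H = ⊥

variable {Γ : Type*} [Group Γ] {Φ I : Type*} (R : RootData Γ Φ I)

namespace RootData

/-- The product of the root subgroups of a set of roots. -/
def span (A : Set Φ) : Subgroup Γ := ⨆ s ∈ A, R.U s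

/-- `U`, the product of the positive root subgroups. -/
def Upos : Subgroup Γ := R.span {s | R.pos s}

/-- `V`, the product of the negative root subgroups. -/
def Vneg : Subgroup Γ := R.span {s | ¬ R.pos s}

/-- The product of the positive root subgroups other than that of the fundamental root. -/
def Udel (i : I) : Subgroup Γ := R.span {s | R.pos s ∧ s ≠ R.simple i}

/-- `B = U H`. -/
def B : Subgroup Γ := R.Upos ⊔ R.H

/-- `N = ⟨H, n i⟩`. -/
def N : Subgroup Γ := R.H ⊔ Subgroup.closure (Set.range R.n)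

/-- The group generated by `B` and `N`. -/
def G : Subgroup Γ := R.B ⊔ R.N

/-- The product of the representatives along a word. -/
def nw (l : List I) : Γ := (l.map R.n).prod

/-- The action of a word on roots. -/
def ww (l : List I) (r : Φ) : Φ := l.foldr R.w r

@[simp] lemma nw_nil : R.nw [] = 1 := rfl
@[simp] lemma nw_cons (i : I) (l : List I) : R.nw (i :: l) = R.n i * R.nw l := rfl
@[simp] lemma nw_append (l l' : List I) : R.nw (l ++ l') = R.nw l * R.nw l' := by simp [nw]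
@[simp] lemma ww_nil (r : Φ) : R.ww [] r = r := rfl
@[simp] lemma ww_cons (i : I) (l : List I) (r : Φ) : R.ww (i :: l) r = R.w i (R.ww l r) := rfl
@[simp] lemma ww_append (l l' : List I) (r : Φ) : R.ww (l ++ l') r = R.ww l (R.ww l' r) := by
  simp [ww, List.foldr_append]

lemma ww_neg (l : List I) (r : Φ) : R.ww l (R.neg r) = R.neg (R.ww l r) := by
  induction l with
  | nil => rfl
  | cons a l ih => rw [ww_cons, ww_cons, ih, R.w_neg]

lemma span_mono {A A' : Set Φ} (h : A ⊆ A') : R.span A ≤ R.span A' := biSup_mono h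

lemma U_le_span {A : Set Φ} {r : Φ} (h : r ∈ A) : R.U r ≤ R.span A := le_biSup R.U h

lemma span_le {A : Set Φ} {K : Subgroup Γ} (h : ∀ r ∈ A, R.U r ≤ K) : R.span A ≤ K := iSup₂_le h

lemma U_le_Upos {r : Φ} (h : R.pos r) : R.U r ≤ R.Upos := R.U_le_span h

lemma U_le_Vneg {r : Φ} (h : ¬ R.pos r) : R.U r ≤ R.Vneg := R.U_le_span h

lemma Upos_le_B : R.Upos ≤ R.B := le_sup_left
lemma H_le_B : R.H ≤ R.B := le_sup_right
lemma H_le_N : R.H ≤ R.N := le_sup_left
lemma n_mem_N (i : I) : R.n i ∈ R.N :=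
  (le_sup_right : Subgroup.closure (Set.range R.n) ≤ R.N) (Subgroup.subset_closure ⟨i, rfl⟩)
lemma B_le_G : R.B ≤ R.G := le_sup_left
lemma N_le_G : R.N ≤ R.G := le_sup_right

lemma nw_mem_N (l : List I) : R.nw l ∈ R.N := by
  induction l with
  | nil => exact one_mem _
  | cons i l ih => exact mul_mem (R.n_mem_N i) ih

lemma U_le_B_iff (r : Φ) : R.U r ≤ R.B ↔ R.pos r := by
  refine ⟨fun h => ?_, fun h => (R.U_le_Upos h).trans R.Upos_le_B⟩
  by_contra hr
  exact R.U_ne_bot r (le_bot_iff.1 (R.B_inf_V ▸ le_inf h (R.U_le_Vneg hr)))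

lemma not_U_le_B {r : Φ} (h : ¬ R.pos r) : ¬ R.U r ≤ R.B := fun h' => h ((R.U_le_B_iff r).1 h')

/-! ### Conjugation -/

lemma map_conj_eq (g : Γ) {K L : Subgroup Γ} (h1 : ∀ x ∈ K, g * x * g⁻¹ ∈ L)
    (h2 : ∀ y ∈ L, g⁻¹ * y * g ∈ K) : K.map (MulAut.conj g).toMonoidHom = L := by
  refine le_antisymm ?_ fun y hy => ⟨g⁻¹ * y * g, h2 y hy, ?_⟩
  · rintro _ ⟨x, hx, rfl⟩; exact h1 x hx
  · show g * (g⁻¹ * y * g) * g⁻¹ = y
    group

lemma mem_map_conj (g : Γ) {K : Subgroup Γ} {x : Γ} :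
    x ∈ K.map (MulAut.conj g).toMonoidHom ↔ g⁻¹ * x * g ∈ K := by
  constructor
  · rintro ⟨y, hy, rfl⟩
    rwa [show g⁻¹ * (MulAut.conj g).toMonoidHom y * g = y by
      show g⁻¹ * (g * y * g⁻¹) * g = y
      group]
  · exact fun h => ⟨_, h, show g * (g⁻¹ * x * g) * g⁻¹ = x by group⟩

lemma map_conj_mul (g h : Γ) (K : Subgroup Γ) :
    K.map (MulAut.conj (g * h)).toMonoidHom =
      (K.map (MulAut.conj h).toMonoidHom).map (MulAut.conj g).toMonoidHom := by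
  ext x
  simp only [mem_map_conj, mul_inv_rev, mul_assoc]

lemma map_conj_one (K : Subgroup Γ) : K.map (MulAut.conj (1 : Γ)).toMonoidHom = K := by
  ext x; simp

lemma map_conj_n (i : I) (r : Φ) :
    (R.U r).map (MulAut.conj (R.n i)).toMonoidHom = R.U (R.w i r) := by
  refine map_conj_eq _ (R.n_conj_U i r) fun y hy => ?_
  have h1 := R.n_conj_U i _ y hy
  rw [R.w_w] at h1
  have h2 := R.H_conj_U _ (inv_mem (R.n_sq i)) r _ h1
  simpa [mul_assoc] using h2

lemma map_conj_H_U {h : Γ} (hh : h ∈ R.H) (r : Φ) :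
    (R.U r).map (MulAut.conj h).toMonoidHom = R.U r :=
  map_conj_eq _ (R.H_conj_U h hh r) fun y hy => by
    simpa using R.H_conj_U _ (inv_mem hh) r y hy

lemma map_conj_U (l : List I) (r : Φ) :
    (R.U r).map (MulAut.conj (R.nw l)).toMonoidHom = R.U (R.ww l r) := by
  induction l with
  | nil => exact map_conj_one _
  | cons i l ih => rw [nw_cons, map_conj_mul, ih, R.map_conj_n, ww_cons]

lemma map_conj_H_nw {h : Γ} (hh : h ∈ R.H) (l : List I) (r : Φ) :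
    (R.U r).map (MulAut.conj (h * R.nw l)).toMonoidHom = R.U (R.ww l r) := by
  rw [map_conj_mul, R.map_conj_U, R.map_conj_H_U hh]

lemma conj_U_mem {g : Γ} {r s : Φ} (h : (R.U r).map (MulAut.conj g).toMonoidHom = R.U s) {x : Γ}
    (hx : x ∈ R.U r) : g * x * g⁻¹ ∈ R.U s := h ▸ ⟨x, hx, rfl⟩

lemma n_conj_H' (i : I) {h : Γ} (hh : h ∈ R.H) : (R.n i)⁻¹ * h * R.n i ∈ R.H := by
  have h1 := R.n_conj_H i h hh
  have h2 := mul_mem (mul_mem (inv_mem (R.n_sq i)) h1) (R.n_sq i)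
  rwa [show (R.n i * R.n i)⁻¹ * (R.n i * h * (R.n i)⁻¹) * (R.n i * R.n i)
    = (R.n i)⁻¹ * h * R.n i by group] at h2

lemma nw_conj_H (l : List I) {h : Γ} (hh : h ∈ R.H) : R.nw l * h * (R.nw l)⁻¹ ∈ R.H := by
  induction l with
  | nil => simpa using hh
  | cons i l ih =>
    have := R.n_conj_H i _ ih
    simpa [mul_assoc] using this

lemma nw_conj_H' (l : List I) {h : Γ} (hh : h ∈ R.H) : (R.nw l)⁻¹ * h * R.nw l ∈ R.H := by
  induction l generalizing h with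
  | nil => simpa using hh
  | cons i l ih =>
    have := ih (R.n_conj_H' i hh)
    simpa [mul_assoc] using this

lemma exists_nw_inv (l : List I) : ∃ h ∈ R.H, (R.nw l)⁻¹ = h * R.nw l.reverse := by
  induction l with
  | nil => exact ⟨1, one_mem _, by simp⟩
  | cons i l ih =>
    obtain ⟨h, hh, e⟩ := ih
    refine ⟨h * (R.nw l.reverse * (R.n i * R.n i)⁻¹ * (R.nw l.reverse)⁻¹),
      mul_mem hh (R.nw_conj_H _ (inv_mem (R.n_sq i))), ?_⟩
    rw [nw_cons, mul_inv_rev, e, List.reverse_cons, nw_append, nw_cons, nw_nil, mul_one]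
    group

lemma mem_N_iff {g : Γ} : g ∈ R.N ↔ ∃ h ∈ R.H, ∃ l, g = h * R.nw l := by
  refine ⟨fun hg => ?_, fun ⟨h, hh, l, e⟩ => e ▸ mul_mem (R.H_le_N hh) (R.nw_mem_N l)⟩
  rw [N, Subgroup.sup_eq_closure] at hg
  induction hg using Subgroup.closure_induction with
  | mem x hx =>
    rcases hx with hx | hx
    · exact ⟨x, hx, [], by simp⟩
    · induction hx using Subgroup.closure_induction with
      | mem y hy =>
        obtain ⟨i, rfl⟩ := hy
        exact ⟨1, one_mem _, [i], by simp⟩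
      | one => exact ⟨1, one_mem _, [], by simp⟩
      | mul x y _ _ hx hy =>
        obtain ⟨h, hh, l, rfl⟩ := hx
        obtain ⟨k, hk, l', rfl⟩ := hy
        exact ⟨h * (R.nw l * k * (R.nw l)⁻¹), mul_mem hh (R.nw_conj_H l hk), l ++ l', by
          rw [nw_append]; group⟩
      | inv x _ hx =>
        obtain ⟨h, hh, l, rfl⟩ := hx
        obtain ⟨k, hk, e⟩ := R.exists_nw_inv l
        exact ⟨k * (R.nw l.reverse * h⁻¹ * (R.nw l.reverse)⁻¹),
          mul_mem hk (R.nw_conj_H _ (inv_mem hh)), l.reverse, by rw [mul_inv_rev, e]; group⟩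
  | one => exact ⟨1, one_mem _, [], by simp⟩
  | mul x y _ _ hx hy =>
    obtain ⟨h, hh, l, rfl⟩ := hx
    obtain ⟨k, hk, l', rfl⟩ := hy
    exact ⟨h * (R.nw l * k * (R.nw l)⁻¹), mul_mem hh (R.nw_conj_H l hk), l ++ l', by
      rw [nw_append]; group⟩
  | inv x _ hx =>
    obtain ⟨h, hh, l, rfl⟩ := hx
    obtain ⟨k, hk, e⟩ := R.exists_nw_inv l
    exact ⟨k * (R.nw l.reverse * h⁻¹ * (R.nw l.reverse)⁻¹),
      mul_mem hk (R.nw_conj_H _ (inv_mem hh)), l.reverse, by rw [mul_inv_rev, e]; group⟩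

lemma conj_H_mem {g h : Γ} (hg : g ∈ R.N) (hh : h ∈ R.H) : g * h * g⁻¹ ∈ R.H := by
  obtain ⟨k, hk, l, rfl⟩ := R.mem_N_iff.1 hg
  rw [show k * R.nw l * h * (k * R.nw l)⁻¹ = k * (R.nw l * h * (R.nw l)⁻¹) * k⁻¹ by group]
  exact mul_mem (mul_mem hk (R.nw_conj_H l hh)) (inv_mem hk)

/-- Elements of `N` permute the root subgroups. -/
lemma exists_map_conj {g : Γ} (hg : g ∈ R.N) (r : Φ) :
    ∃ s, (R.U r).map (MulAut.conj g).toMonoidHom = R.U s := by
  obtain ⟨h, hh, l, rfl⟩ := R.mem_N_iff.1 hg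
  exact ⟨_, R.map_conj_H_nw hh l r⟩

/-- If two words agree modulo `H` they preserve the positivity of the same roots. -/
lemma pos_ww_congr {l l' : List I} {h : Γ} (hh : h ∈ R.H) (e : R.nw l = h * R.nw l') (r : Φ) :
    R.pos (R.ww l r) ↔ R.pos (R.ww l' r) := by
  have hU : R.U (R.ww l r) = R.U (R.ww l' r) := by
    rw [← R.map_conj_U l r, e, R.map_conj_H_nw hh]
  rw [← R.U_le_B_iff, ← R.U_le_B_iff, hU]

/-! ### The rank one subgroups -/

/-- `⟨U_{α}, U_{-α}, H⟩`. -/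
def L (i : I) : Subgroup Γ := R.U (R.simple i) ⊔ R.U (R.neg (R.simple i)) ⊔ R.H

lemma conj_n_simple {i : I} {c : Γ} (hc : c ∈ R.U (R.simple i)) :
    R.n i * c * (R.n i)⁻¹ ∈ R.U (R.neg (R.simple i)) := by
  simpa [R.w_simple] using R.n_conj_U i _ c hc

lemma conj_n_simple' {i : I} {c : Γ} (hc : c ∈ R.U (R.simple i)) :
    (R.n i)⁻¹ * c * R.n i ∈ R.U (R.neg (R.simple i)) := by
  have h1 := R.H_conj_U _ (inv_mem (R.n_sq i)) _ _ (R.conj_n_simple hc)
  simpa [mul_assoc] using h1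

lemma conj_H_U' {h : Γ} (hh : h ∈ R.H) {r : Φ} {x : Γ} (hx : x ∈ R.U r) : h⁻¹ * x * h ∈ R.U r := by
  simpa using R.H_conj_U _ (inv_mem hh) r x hx

/-- The two cells of `L i`. -/
lemma L_cases {i : I} {g : Γ} (hg : g ∈ R.L i) :
    (∃ a ∈ R.U (R.simple i), ∃ h ∈ R.H, g = a * h) ∨
    ∃ a ∈ R.U (R.simple i), ∃ h ∈ R.H, ∃ c ∈ R.U (R.simple i), g = a * h * R.n i * c := by
  let M : Set Γ := {g | (∃ a ∈ R.U (R.simple i), ∃ h ∈ R.H, g = a * h) ∨
    ∃ a ∈ R.U (R.simple i), ∃ h ∈ R.H, ∃ c ∈ R.U (R.simple i), g = a * h * R.n i * c}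
  have hU : ∀ x ∈ R.U (R.simple i), ∀ m ∈ M, x * m ∈ M := by
    rintro x hx m (⟨a, ha, h, hh, rfl⟩ | ⟨a, ha, h, hh, c, hc, rfl⟩)
    · exact Or.inl ⟨x * a, mul_mem hx ha, h, hh, by group⟩
    · exact Or.inr ⟨x * a, mul_mem hx ha, h, hh, c, hc, by group⟩
  have hH : ∀ x ∈ R.H, ∀ m ∈ M, x * m ∈ M := by
    rintro x hx m (⟨a, ha, h, hh, rfl⟩ | ⟨a, ha, h, hh, c, hc, rfl⟩)
    · exact Or.inl ⟨x * a * x⁻¹, R.H_conj_U x hx _ a ha, x * h, mul_mem hx hh, by group⟩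
    · exact Or.inr ⟨x * a * x⁻¹, R.H_conj_U x hx _ a ha, x * h, mul_mem hx hh, c, hc, by group⟩
  have hR : ∀ x ∈ R.H, ∀ m ∈ M, m * x ∈ M := by
    rintro x hx m (⟨a, ha, h, hh, rfl⟩ | ⟨a, ha, h, hh, c, hc, rfl⟩)
    · exact Or.inl ⟨a, ha, h * x, mul_mem hh hx, by group⟩
    · exact Or.inr ⟨a, ha, h * (R.n i * x * (R.n i)⁻¹), mul_mem hh (R.n_conj_H i x hx),
        x⁻¹ * c * x, R.conj_H_U' hx hc, by group⟩
  have h1 : ∀ y ∈ R.U (R.neg (R.simple i)), y ∈ M := by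
    intro y hy
    by_cases h : y = 1
    · exact Or.inl ⟨1, one_mem _, 1, one_mem _, by simp [h]⟩
    · exact Or.inr (R.rank_one i y hy h)
  have hV : ∀ y ∈ R.U (R.neg (R.simple i)), ∀ m ∈ M, y * m ∈ M := by
    intro y hy m hm
    rcases h1 y hy with ⟨a', ha', h', hh', rfl⟩ | ⟨a', ha', h', hh', c', hc', rfl⟩
    · rw [mul_assoc]; exact hU _ ha' _ (hH _ hh' _ hm)
    rcases hm with ⟨a, ha, h, hh, rfl⟩ | ⟨a, ha, h, hh, c, hc, rfl⟩
    · exact Or.inr ⟨a', ha', h' * (R.n i * h * (R.n i)⁻¹), mul_mem hh' (R.n_conj_H i h hh),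
        h⁻¹ * (c' * a) * h, R.conj_H_U' hh (mul_mem hc' ha), by group⟩
    · -- `n c n = (n c n⁻¹) n²`
      set k := R.n i * h * (R.n i)⁻¹ with hk
      have hkH : k ∈ R.H := R.n_conj_H i h hh
      set c'' := h⁻¹ * (c' * a) * h with hc''
      have hc''U : c'' ∈ R.U (R.simple i) := R.conj_H_U' hh (mul_mem hc' ha)
      set y' := R.n i * c'' * (R.n i)⁻¹ with hy'
      have hy'V : y' ∈ R.U (R.neg (R.simple i)) := R.conj_n_simple hc''U
      have e : a' * h' * R.n i * c' * (a * h * R.n i * c) =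
          a' * ((h' * k) * (y' * (R.n i * R.n i) * c)) := by
        rw [hy', hc'', hk]; group
      rw [e]
      refine hU _ ha' _ (hH _ (mul_mem hh' hkH) _ ?_)
      rw [show y' * (R.n i * R.n i) * c = y' * ((R.n i * R.n i) * c * (R.n i * R.n i)⁻¹)
        * (R.n i * R.n i) by group]
      refine hR _ (R.n_sq i) _ ?_
      have hc₂ := R.H_conj_U _ (R.n_sq i) _ c hc
      rcases h1 y' hy'V with ⟨a₃, ha₃, h₃, hh₃, e₃⟩ | ⟨a₃, ha₃, h₃, hh₃, c₃, hc₃, e₃⟩
      · rw [e₃, mul_assoc]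
        exact hU _ ha₃ _ (hH _ hh₃ _ (Or.inl ⟨_, hc₂, 1, one_mem _, (mul_one _).symm⟩))
      · exact Or.inr ⟨a₃, ha₃, h₃, hh₃, c₃ * ((R.n i * R.n i) * c * (R.n i * R.n i)⁻¹),
          mul_mem hc₃ hc₂, by rw [e₃]; group⟩
  have key : ∀ x ∈ R.L i, (∀ m ∈ M, x * m ∈ M) ∧ ∀ m ∈ M, x⁻¹ * m ∈ M := by
    intro x hx
    rw [L, sup_assoc, Subgroup.sup_eq_closure] at hx
    induction hx using Subgroup.closure_induction with
    | mem x hx =>
      rcases hx with hx | hx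
      · exact ⟨hU x hx, hU _ (inv_mem hx)⟩
      · rw [SetLike.mem_coe, Subgroup.sup_eq_closure] at hx
        induction hx using Subgroup.closure_induction with
        | mem y hy =>
          rcases hy with hy | hy
          · exact ⟨hV y hy, hV _ (inv_mem hy)⟩
          · exact ⟨hH y hy, hH _ (inv_mem hy)⟩
        | one => simp
        | mul x y _ _ hx hy =>
          refine ⟨fun m hm => ?_, fun m hm => ?_⟩
          · rw [mul_assoc]; exact hx.1 _ (hy.1 _ hm)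
          · rw [mul_inv_rev, mul_assoc]; exact hy.2 _ (hx.2 _ hm)
        | inv x _ hx => exact ⟨hx.2, by rw [inv_inv]; exact hx.1⟩
    | one => simp
    | mul x y _ _ hx hy =>
      refine ⟨fun m hm => ?_, fun m hm => ?_⟩
      · rw [mul_assoc]; exact hx.1 _ (hy.1 _ hm)
      · rw [mul_inv_rev, mul_assoc]; exact hy.2 _ (hx.2 _ hm)
    | inv x _ hx => exact ⟨hx.2, by rw [inv_inv]; exact hx.1⟩
  have : g * 1 ∈ M := (key g hg).1 1 (Or.inl ⟨1, one_mem _, 1, one_mem _, by simp⟩)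
  rwa [mul_one] at this

/-- No element of `U_α` other than `1` normalises `U_{-α}`. -/
lemma eq_one_of_normalizes {i : I} {a : Γ} (ha : a ∈ R.U (R.simple i))
    (h : (R.U (R.neg (R.simple i))).map (MulAut.conj a).toMonoidHom = R.U (R.neg (R.simple i))) :
    a = 1 := by
  by_contra hne
  have hz : (R.n i)⁻¹ * a * R.n i ≠ 1 := fun hz =>
    hne (by have := congrArg (fun z => R.n i * z * (R.n i)⁻¹) hz; simpa [mul_assoc] using this)
  have hzV := R.conj_n_simple' ha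
  -- `a n` lies in `U_{-α} B`
  obtain ⟨a₁, ha₁, h₁, hh₁, c₁, hc₁, e⟩ := R.rank_one i _ hzV hz
  set y₀ := R.n i * a₁ * (R.n i)⁻¹ with hy₀
  have hy₀V : y₀ ∈ R.U (R.neg (R.simple i)) := R.conj_n_simple ha₁
  set b := (R.n i * h₁ * (R.n i)⁻¹) * (R.n i * R.n i) * c₁ with hb
  have hbB : b ∈ R.B := mul_mem (R.H_le_B (mul_mem (R.n_conj_H i _ hh₁) (R.n_sq i)))
    (R.Upos_le_B (R.U_le_Upos (R.pos_simple i) hc₁))
  have e' : a * R.n i = y₀ * b := by
    rw [hy₀, hb, show a * R.n i = R.n i * ((R.n i)⁻¹ * a * R.n i) by group, e]; group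
  refine R.not_U_le_B (by rw [R.pos_neg]; exact not_not.2 (R.pos_simple i)) fun y hy => ?_
  -- `y₀ y y₀⁻¹` fixes the coset `a n B = y₀ B`
  have hy' : a⁻¹ * (y₀ * y * y₀⁻¹) * a ∈ R.U (R.neg (R.simple i)) := by
    rw [← mem_map_conj, h]; exact mul_mem (mul_mem hy₀V hy) (inv_mem hy₀V)
  have h3 : (R.n i)⁻¹ * (a⁻¹ * (y₀ * y * y₀⁻¹) * a) * R.n i ∈ R.U (R.simple i) := by
    have h4 := R.n_conj_U i _ _ hy'
    rw [R.w_neg, R.w_simple, R.neg_neg] at h4
    have h5 := R.H_conj_U _ (inv_mem (R.n_sq i)) _ _ h4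
    simpa [mul_assoc] using h5
  have h4 := mul_mem (mul_mem hbB (R.Upos_le_B (R.U_le_Upos (R.pos_simple i) h3))) (inv_mem hbB)
  rw [show (R.n i)⁻¹ * (a⁻¹ * (y₀ * y * y₀⁻¹) * a) * R.n i
    = (a * R.n i)⁻¹ * (y₀ * y * y₀⁻¹) * (a * R.n i) by group, e'] at h4
  rwa [show b * ((y₀ * b)⁻¹ * (y₀ * y * y₀⁻¹) * (y₀ * b)) * b⁻¹ = y by group] at h4

/-- An element of `L i` exchanging `U_α` and `U_{-α}` lies in `H n i`. -/
lemma mem_H_mul_n {i : I} {g : Γ} (hg : g ∈ R.L i)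
    (h1 : (R.U (R.simple i)).map (MulAut.conj g).toMonoidHom = R.U (R.neg (R.simple i)))
    (h2 : (R.U (R.neg (R.simple i))).map (MulAut.conj g).toMonoidHom = R.U (R.simple i)) :
    ∃ h ∈ R.H, g = h * R.n i := by
  have hUU : ∀ {x : Γ}, x ∈ R.U (R.simple i) →
      (R.U (R.simple i)).map (MulAut.conj x).toMonoidHom = R.U (R.simple i) := fun {x} hx =>
    map_conj_eq _ (fun y hy => mul_mem (mul_mem hx hy) (inv_mem hx))
      fun y hy => mul_mem (mul_mem (inv_mem hx) hy) hx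
  have hnp := map_conj_n R i (R.simple i)
  have hnn := map_conj_n R i (R.neg (R.simple i))
  rw [R.w_simple] at hnp
  rw [R.w_neg, R.w_simple, R.neg_neg] at hnn
  rcases R.L_cases hg with ⟨a, ha, h, hh, rfl⟩ | ⟨a, ha, h, hh, c, hc, rfl⟩
  · exfalso
    rw [map_conj_mul, R.map_conj_H_U hh, hUU ha] at h1
    exact R.not_U_le_B (by rw [R.pos_neg]; exact not_not.2 (R.pos_simple i))
      (h1 ▸ (R.U_le_B_iff _).2 (R.pos_simple i))
  · have ha1 : a = 1 := by
      refine R.eq_one_of_normalizes ha ?_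
      rwa [map_conj_mul, hUU hc, map_conj_mul, hnp, map_conj_mul, R.map_conj_H_U hh] at h1
    subst ha1
    rw [one_mul] at h2
    have hc1 : c = 1 := by
      refine R.eq_one_of_normalizes hc ?_
      have e : c = (h * R.n i)⁻¹ * (h * R.n i * c) := by group
      rw [e, map_conj_mul, h2]
      refine map_conj_eq _ (fun x hx => ?_) fun x hx => ?_
      · simpa [mul_assoc] using R.conj_n_simple' (R.conj_H_U' hh hx)
      · have := R.H_conj_U _ hh _ _ (by
          have h' := R.n_conj_U i _ x hx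
          rwa [R.w_neg, R.w_simple, R.neg_neg] at h')
        simpa [mul_assoc] using this
    exact ⟨h, hh, by rw [hc1, one_mul, mul_one]⟩

/-- Transfer of representatives. -/
lemma conj_n_mem {i j : I} {u : List I} (hu : R.ww u (R.simple j) = R.simple i) :
    ∃ h ∈ R.H, R.nw u * R.n j = h * R.n i * R.nw u := by
  have hp := R.map_conj_U u (R.simple j)
  have hn := R.map_conj_U u (R.neg (R.simple j))
  rw [hu] at hp
  rw [R.ww_neg, hu] at hn
  set c : Γ →* Γ := (MulAut.conj (R.nw u)).toMonoidHom with hc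
  have hH : R.H.map c = R.H :=
    map_conj_eq _ (fun x hx => R.nw_conj_H u hx) fun x hx => R.nw_conj_H' u hx
  have hgL : R.nw u * R.n j * (R.nw u)⁻¹ ∈ R.L i := by
    have : (R.L j).map c = R.L i := by rw [L, L, Subgroup.map_sup, Subgroup.map_sup, hp, hn, hH]
    exact this ▸ ⟨_, R.n_mem j, rfl⟩
  have hinv : ∀ r, (R.U (R.ww u r)).map (MulAut.conj (R.nw u)⁻¹).toMonoidHom = R.U r := fun r => by
    rw [← R.map_conj_U u r, ← map_conj_mul, inv_mul_cancel, map_conj_one]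
  have hmap : ∀ r, (R.U (R.ww u r)).map (MulAut.conj (R.nw u * R.n j * (R.nw u)⁻¹)).toMonoidHom
      = R.U (R.ww u (R.w j r)) := fun r => by
    rw [map_conj_mul, hinv, map_conj_mul, R.map_conj_n, R.map_conj_U]
  have h1 := hmap (R.simple j)
  have h2 := hmap (R.neg (R.simple j))
  rw [hu, R.w_simple, R.ww_neg, hu] at h1
  rw [R.ww_neg, hu, R.w_neg, R.w_simple, R.neg_neg, hu] at h2
  obtain ⟨h, hh, e⟩ := R.mem_H_mul_n hgL h1 h2
  exact ⟨h, hh, by rw [← e]; group⟩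

/-! ### Deletion -/

lemma crossing : ∀ (l : List I) {r : Φ}, R.pos r → ¬ R.pos (R.ww l r) →
    ∃ p i u, l = p ++ i :: u ∧ R.ww u r = R.simple i
  | [], r, hr, h => absurd hr h
  | a :: l, r, hr, h => by
    by_cases hl : R.pos (R.ww l r)
    · refine ⟨[], a, l, rfl, ?_⟩
      by_contra hne
      exact h (R.w_pos a _ hl hne)
    · obtain ⟨p, i, u, rfl, hu⟩ := crossing l hr hl
      exact ⟨a :: p, i, u, rfl, hu⟩

/-- If `l (α j)` is negative then `l ++ [j]` is congruent modulo `H` to a word shorter than `l`. -/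
lemma exists_shorter {l : List I} {j : I} (h : ¬ R.pos (R.ww l (R.simple j))) :
    ∃ l' : List I, l'.length + 1 = l.length ∧ ∃ k ∈ R.H, R.nw (l ++ [j]) = k * R.nw l' := by
  obtain ⟨p, i, u, rfl, hu⟩ := R.crossing l (R.pos_simple j) h
  obtain ⟨k, hk, e⟩ := R.conj_n_mem hu
  refine ⟨p ++ u, by simp; omega, R.nw p * ((R.n i * k * (R.n i)⁻¹) * (R.n i * R.n i)) * (R.nw p)⁻¹,
    R.nw_conj_H p (mul_mem (R.n_conj_H i k hk) (R.n_sq i)), ?_⟩
  simp only [nw_append, nw_cons, nw_nil, mul_one]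
  rw [mul_assoc (R.nw p), mul_assoc (R.n i), e]
  group

/-- A word keeping all positive roots positive lies in `H`. -/
lemma mem_H_of_pos {l : List I} (h : ∀ r, R.pos r → R.pos (R.ww l r)) : R.nw l ∈ R.H := by
  induction hn : l.length using Nat.strong_induction_on generalizing l with
  | _ q ih =>
    rcases List.eq_nil_or_concat' l with rfl | ⟨l, j, rfl⟩
    · exact one_mem _
    have h1 := h _ (R.pos_simple j)
    rw [ww_append, ww_cons, ww_nil, R.w_simple, R.ww_neg, R.pos_neg] at h1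
    obtain ⟨l', hlen, k, hk, e⟩ := R.exists_shorter h1
    have h' : ∀ r, R.pos r → R.pos (R.ww l' r) := fun r hr =>
      (R.pos_ww_congr hk e r).1 (h r hr)
    rw [e]
    exact mul_mem hk (ih l'.length (by subst hn; simp; omega) h' rfl)

theorem mem_H_iff (l : List I) : R.nw l ∈ R.H ↔ ∀ r, R.pos r → R.pos (R.ww l r) := by
  refine ⟨fun h r hr => ?_, R.mem_H_of_pos⟩
  exact (R.pos_ww_congr (l := l) (l' := []) h (by simp) r).2 hr

lemma nw_mem_B_iff (l : List I) : R.nw l ∈ R.B ↔ R.nw l ∈ R.H := by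
  refine ⟨fun h => R.mem_H_of_pos fun r hr => ?_, fun h => R.H_le_B h⟩
  rw [← R.U_le_B_iff, ← R.map_conj_U]
  rintro _ ⟨x, hx, rfl⟩
  exact mul_mem (mul_mem h ((R.U_le_B_iff r).2 hr hx)) (inv_mem h)

theorem B_inf_N : R.B ⊓ R.N = R.H := by
  refine le_antisymm (fun g hg => ?_) (le_inf R.H_le_B R.H_le_N)
  obtain ⟨h, hh, l, rfl⟩ := R.mem_N_iff.1 hg.2
  have hl : R.nw l ∈ R.B := by
    simpa using mul_mem (R.H_le_B (inv_mem hh)) hg.1
  exact mul_mem hh ((R.nw_mem_B_iff l).1 hl)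

lemma n_not_mem_H (i : I) : R.n i ∉ R.H := by
  intro h
  have := (R.mem_H_iff [i]).1 (by simpa using h) _ (R.pos_simple i)
  rw [ww_cons, ww_nil, R.w_simple, R.pos_neg] at this
  exact this (R.pos_simple i)

lemma n_inj {i j : I} (h : (R.n i)⁻¹ * R.n j ∈ R.H) : i = j := by
  by_contra hne
  have e : R.nw [j] = R.n i * ((R.n i)⁻¹ * R.n j) * (R.n i)⁻¹ * R.nw [i] := by simp [mul_assoc]
  have h1 := (R.pos_ww_congr (R.n_conj_H i _ h) e (R.simple j)).2
    (R.w_pos i _ (R.pos_simple j) fun e => hne (R.simple_inj e).symm)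
  rw [ww_cons, ww_nil, R.w_simple, R.pos_neg] at h1
  exact h1 (R.pos_simple j)

end RootData

end Cfsg.Agent.RGD
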