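import Cfsg.Agent.Lib.RGD.NormalForm

/-!
# A monomial form for involutions in a group with root group data

For root group data whose monomial group has trivial kernel on the roots (`hid`) and a longest word
(`hl0`), every involution of `G` is conjugate to an involution `h * nw l` such that each fundamental
root is either fixed or made negative by `l`.

* `exists_monomial_involution`.
-/

set_option autoImplicit false
set_option linter.unusedSectionVars false

namespace Cfsg.Agent.RGD.RootData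

variable {Γ : Type*} [Group Γ] {Φ I : Type*} (R : RootData Γ Φ I)

lemma ww_reverse' (l : List I) (r : Φ) : R.ww l.reverse (R.ww l r) = r ∧ R.ww l (R.ww l.reverse r) = r := by
  induction l generalizing r with
  | nil => exact ⟨rfl, rfl⟩
  | cons a l ih =>
    rw [List.reverse_cons]
    simp only [ww_append, ww_cons, ww_nil, R.w_w, (ih r).1, (ih _).2, and_self]

variable (hid : ∀ l, R.nw l ∈ R.H → ∀ r, R.ww l r = r)
include hid

/-- Words congruent modulo `H` act in the same way. -/
lemma ww_eq_of_coset {l l' : List I} {k : Γ} (hk : k ∈ R.H) (e : R.nw l = k * R.nw l') (r : Φ) :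
    R.ww l r = R.ww l' r := by
  obtain ⟨h, hh, eh⟩ := R.exists_nw_inv l'
  have h1 : R.nw (l'.reverse ++ l) ∈ R.H := by
    rw [nw_append, show R.nw l'.reverse = h⁻¹ * (R.nw l')⁻¹ by rw [eh]; group, e,
      show h⁻¹ * (R.nw l')⁻¹ * (k * R.nw l') = h⁻¹ * ((R.nw l')⁻¹ * k * R.nw l') by group]
    exact mul_mem (inv_mem hh) (R.nw_conj_H' l' hk)
  have h2 := congrArg (R.ww l') (hid _ h1 r)
  rwa [ww_append, (R.ww_reverse' l' _).2] at h2

/-- A word fixing a fundamental root commutes with its reflection. -/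
lemma ww_comm {l : List I} {i : I} (hi : R.ww l (R.simple i) = R.simple i) (r : Φ) :
    R.ww l (R.w i r) = R.w i (R.ww l r) := by
  obtain ⟨h, hh, e⟩ := R.conj_n_mem hi
  have := R.ww_eq_of_coset hid (l := l ++ [i]) (l' := i :: l) hh
    (by rw [nw_append, nw_cons, nw_cons, nw_nil, mul_one, e, mul_assoc]) r
  simpa using this

/-- Words in fixed fundamental roots commute with the word fixing them. -/
lemma ww_comm_word {l b : List I} (hb : ∀ i ∈ b, R.ww l (R.simple i) = R.simple i) (r : Φ) :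
    R.ww l (R.ww b r) = R.ww b (R.ww l r) := by
  induction b with
  | nil => rfl
  | cons i b ih =>
    rw [ww_cons, R.ww_comm hid (hb i (by simp)), ih fun j hj => hb j (List.mem_cons_of_mem _ hj),
      ww_cons]

/-- Negativity outside the fixed part is kept. -/
lemma neg_keep {l : List I} {j : I} (hl2 : ∀ r, R.ww l (R.ww l r) = r)
    (hj : ¬ R.pos (R.ww l (R.simple j))) :
    ∀ b : List I, (∀ i ∈ b, R.ww l (R.simple i) = R.simple i) →
      ¬ R.pos (R.ww b (R.ww l (R.simple j)))
  | [], _ => hj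
  | i :: b, hb => by
    have hb' : ∀ k ∈ b, R.ww l (R.simple k) = R.simple k := fun k hk => hb k (List.mem_cons_of_mem _ hk)
    have hi := hb i (by simp)
    have ih := neg_keep hl2 hj b hb'
    rw [ww_cons]
    set s := R.ww b (R.ww l (R.simple j)) with hs
    intro hp
    have h1 : R.pos (R.neg s) := (R.pos_neg _).2 ih
    by_cases he : R.neg s = R.simple i
    · have h2 : R.ww l (R.ww l (R.simple j)) = R.ww l (R.simple j) := by
        have e1 : R.ww b.reverse s = R.ww l (R.simple j) := (R.ww_reverse' b _).1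
        have hb'' : ∀ k ∈ b.reverse, R.ww l (R.simple k) = R.simple k :=
          fun k hk => hb' k (List.mem_reverse.1 hk)
        have e2 : R.ww l s = s := by
          rw [← R.neg_neg s, he, R.ww_neg, hi]
        rw [← e1, R.ww_comm_word hid hb'', e2]
      rw [hl2] at h2
      exact hj (h2 ▸ R.pos_simple j)
    · have h2 := R.w_pos i _ h1 he
      rw [R.w_neg, R.pos_neg] at h2
      exact h2 hp

omit hid

/-- The roots inverted by a word. -/
noncomputable def invRoots [Fintype Φ] (l : List I) : Finset Φ :=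
  open scoped Classical in
  Finset.univ.filter fun r => R.pos r ∧ ¬ R.pos (R.ww l r)

lemma mem_invRoots [Fintype Φ] {l : List I} {r : Φ} :
    r ∈ R.invRoots l ↔ R.pos r ∧ ¬ R.pos (R.ww l r) := by
  classical
  simp [invRoots]

/-- The result of the reduction. -/
def MonomialInvolution (t : Γ) : Prop :=
  ∃ c ∈ R.G, ∃ h ∈ R.H, ∃ l : List I, c * t * c⁻¹ = h * R.nw l ∧
    h * R.nw l * (h * R.nw l) = 1 ∧ (∀ r, R.ww l (R.ww l r) = r) ∧
    ∀ i, ¬ R.pos (R.ww l (R.simple i)) ∨ R.ww l (R.simple i) = R.simple i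

variable [Fintype Φ] {l0 : List I} (hl0 : ∀ r, R.pos r → ¬ R.pos (R.ww l0 r))
include hid hl0

theorem monomial_aux (k : ℕ) : ∀ (t u h : Γ) (l : List I), t * t = 1 →
    u ∈ R.Upos → h ∈ R.H → t = u * (h * R.nw l) →
    Fintype.card Φ - (R.invRoots l).card = k → R.MonomialInvolution t := by
  induction k using Nat.strong_induction_on with
  | _ k ih =>
  intro t u h l htt hu hh et hk
  classical
  set m := h * R.nw l with hm
  have hmN : m ∈ R.N := mul_mem (R.H_le_N hh) (R.nw_mem_N l)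
  have hUG : ∀ x ∈ R.Upos, x ∈ R.G := fun x hx => R.B_le_G (R.Upos_le_B hx)
  have hnG : ∀ i, R.n i ∈ R.G := fun i => R.N_le_G (R.n_mem_N i)
  have step : ∀ (c t' u' h' : Γ) (l' : List I), c ∈ R.G → t' = c * t * c⁻¹ →
      u' ∈ R.Upos → h' ∈ R.H → t' = u' * (h' * R.nw l') →
      (R.invRoots l).card < (R.invRoots l').card → R.MonomialInvolution t := by
    intro c t' u' h' l' hc e1 hu' hh' e2 hlt
    have hb : (R.invRoots l').card ≤ Fintype.card Φ := Finset.card_le_univ _
    obtain ⟨c', hc', h'', hh'', l'', e3, e4⟩ := ih (Fintype.card Φ - (R.invRoots l').card) (by omega)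
      t' u' h' l'
      (by rw [e1, show c * t * c⁻¹ * (c * t * c⁻¹) = c * (t * t) * c⁻¹ by group, htt]; group) hu' hh' e2 rfl
    refine ⟨c' * c, mul_mem hc' hc, h'', hh'', l'', ?_, e4⟩
    rw [← e3, e1]
    group
  -- the Weyl element is an involution
  have hmm : m * m ∈ R.H := by
    have e : u * m * u = (1 : Γ) * m⁻¹ * 1 := by
      have h1 : u * m * (u * m) = 1 := by rw [← et]; exact htt
      calc u * m * u = u * m * (u * m) * m⁻¹ := by group
        _ = _ := by rw [h1]; group
    have h2 := R.mem_H_of_eq hmN (inv_mem hmN) (R.Upos_le_B hu) (R.Upos_le_B hu) (one_mem _) (one_mem _) e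
    have h3 := inv_mem h2
    rwa [mul_inv_rev, inv_inv] at h3
  have hnn : R.nw (l ++ l) ∈ R.H := by
    have e : R.nw (l ++ l) = (R.nw l * h * (R.nw l)⁻¹)⁻¹ * h⁻¹ * (m * m) := by
      rw [nw_append, hm]; group
    rw [e]
    exact mul_mem (mul_mem (inv_mem (R.nw_conj_H l hh)) (inv_mem hh)) hmm
  have hsq : ∀ r, R.ww l (R.ww l r) = r := fun r => by rw [← ww_append]; exact hid _ hnn r
  by_cases hall : ∀ i, ¬ R.pos (R.ww l (R.simple i)) ∨ R.ww l (R.simple i) = R.simple i
  swap
  · -- a fundamental root moved to another positive root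
    push Not at hall
    obtain ⟨i, hipos, hine⟩ := hall
    obtain ⟨k₀, hk₀, a, ha, rfl⟩ := R.exists_Upos (i := i) hu
    have hy : m * a * m⁻¹ ∈ R.Udel i :=
      R.U_le_span (A := {s | R.pos s ∧ s ≠ R.simple i}) ⟨hipos, hine⟩
        (R.conj_U_mem (R.map_conj_H_nw hh l _) ha)
    set v := a⁻¹ * k₀ * a⁻¹⁻¹ * (m * a * m⁻¹) with hv
    have hv' : v ∈ R.Udel i := mul_mem (R.U_conj_Udel i (inv_mem ha) _ hk₀) hy
    obtain ⟨z, hz, ez⟩ : ∃ z ∈ R.H, R.n i * m * (R.n i)⁻¹ = z * R.nw (i :: (l ++ [i])) := by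
      refine ⟨R.n i * h * (R.n i)⁻¹ *
        (R.nw (i :: (l ++ [i])) * (R.n i * R.n i)⁻¹ * (R.nw (i :: (l ++ [i])))⁻¹),
        mul_mem (R.n_conj_H i h hh) (R.nw_conj_H _ (inv_mem (R.n_sq i))), ?_⟩
      rw [hm, nw_cons, nw_append, nw_cons, nw_nil]
      group
    refine step (R.n i * a⁻¹) _ (R.n i * v * (R.n i)⁻¹) z (i :: (l ++ [i]))
      (mul_mem (hnG i) (inv_mem (hUG a (R.U_le_Upos (R.pos_simple i) ha)))) rfl
      (R.Udel_le_Upos i (R.n_conj_Udel i v hv')) hz ?_ ?_
    · rw [et, ← ez, hv]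
      group
    · have hinj : Set.InjOn (R.w i) (R.invRoots l : Set Φ) := fun x _ y _ e => by
        have := congrArg (R.w i) e
        rwa [R.w_w, R.w_w] at this
      have hsub : insert (R.simple i) ((R.invRoots l).image (R.w i)) ⊆
          R.invRoots (i :: (l ++ [i])) := by
        intro x hx
        rw [mem_invRoots]
        simp only [ww_cons, ww_append, ww_nil]
        rcases Finset.mem_insert.1 hx with rfl | hx
        · refine ⟨R.pos_simple i, ?_⟩
          rw [R.w_simple, R.ww_neg, R.w_neg]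
          exact fun hp => (R.pos_neg _).1 hp (R.w_pos i _ hipos hine)
        · obtain ⟨β, hβ, rfl⟩ := Finset.mem_image.1 hx
          rw [mem_invRoots] at hβ
          have hβi : β ≠ R.simple i := fun e => hβ.2 (e ▸ hipos)
          refine ⟨R.w_pos i β hβ.1 hβi, fun hp => ?_⟩
          rw [R.w_w] at hp
          by_cases he : R.ww l β = R.neg (R.simple i)
          · have h7 := hsq β
            rw [he, R.ww_neg] at h7
            exact (R.pos_neg _).1 (h7 ▸ hβ.1) hipos
          · have h5 : R.pos (R.neg (R.ww l β)) := (R.pos_neg _).2 hβ.2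
            have h6 := R.w_pos i _ h5 fun e => he (by rw [← e, R.neg_neg])
            rw [R.w_neg] at h6
            exact (R.pos_neg _).1 h6 hp
      refine lt_of_lt_of_le ?_ (Finset.card_le_card hsub)
      rw [Finset.card_insert_of_notMem, Finset.card_image_of_injOn hinj]
      · omega
      · intro hx
        obtain ⟨β, hβ, e⟩ := Finset.mem_image.1 hx
        have h7 := congrArg (R.w i) e
        rw [R.w_w, R.w_simple] at h7
        rw [mem_invRoots, h7] at hβ
        exact (R.pos_neg _).1 hβ.1 (R.pos_simple i)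
  -- split off the inverted part, which is trivial
  obtain ⟨p, hp, hp', q, hq, eu⟩ := R.exists_split l hu
  have hmp : m * p * m⁻¹ ∈ R.Upos := by
    rw [show m * p * m⁻¹ = h * (R.nw l * p * (R.nw l)⁻¹) * h⁻¹ by rw [hm]; group]
    exact R.H_conj_span _ hh _ hp'
  have hq1 : q = 1 := by
    have h1 : u * m * (u * m) = 1 := by rw [← et]; exact htt
    have hmu : m * u * m⁻¹ = u⁻¹ * (m * m)⁻¹ :=
      calc m * u * m⁻¹ = u⁻¹ * (u * m * (u * m)) * (m * m)⁻¹ := by group
        _ = _ := by rw [h1, mul_one]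
    have hmuB : m * u * m⁻¹ ∈ R.B := hmu ▸ mul_mem (inv_mem (R.Upos_le_B hu)) (R.H_le_B (inv_mem hmm))
    have hB : m * q * m⁻¹ ∈ R.B := by
      rw [show m * q * m⁻¹ = (m * p * m⁻¹)⁻¹ * (m * u * m⁻¹) by rw [eu]; group]
      exact mul_mem (inv_mem (R.Upos_le_B hmp)) hmuB
    have hV : m * q * m⁻¹ ∈ R.Vneg := by
      rw [show m * q * m⁻¹ = h * (R.nw l * q * (R.nw l)⁻¹) * h⁻¹ by rw [hm]; group]
      exact R.H_conj_span _ hh _ (R.conj_Uminus l q hq)
    have h4 : m * q * m⁻¹ = 1 := Subgroup.mem_bot.1 (R.B_inf_V ▸ ⟨hB, hV⟩)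
    exact conj_eq_one_iff.1 h4
  rw [hq1, mul_one] at eu
  subst eu
  have hm1 : m * m = 1 := by
    have h1 : u * m * (u * m) = 1 := by rw [← et]; exact htt
    have e : m * m = (m * u * m⁻¹)⁻¹ * u⁻¹ :=
      calc m * m = (m * u * m⁻¹)⁻¹ * u⁻¹ * (u * m * (u * m)) := by group
        _ = _ := by rw [h1, mul_one]
    have hU : m * m ∈ R.Upos := by
      rw [e]
      exact mul_mem (inv_mem hmp) (inv_mem hu)
    exact Subgroup.mem_bot.1 (R.U_inf_H ▸ ⟨hU, hmm⟩)
  by_cases hu1 : u = 1
  · exact ⟨1, one_mem _, h, hh, l, by rw [et, hu1, ← hm]; group, hm1, hsq, hall⟩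
  -- conjugate by words in the fixed fundamental roots until a fundamental coordinate appears
  obtain ⟨w0w, hw0w⟩ : ∃ a : List I, a = l0 ++ l := ⟨_, rfl⟩
  have main : ∀ (n : ℕ) (a b : List I), a.length = n →
      (∀ i ∈ b, R.ww l (R.simple i) = R.simple i) →
      (∀ r, R.ww (a ++ b) r = R.ww l0 (R.ww l r)) →
      R.nw b * u * (R.nw b)⁻¹ ∈ R.Upos → R.MonomialInvolution t := by
    intro n
    induction n using Nat.strong_induction_on with
    | _ n ihn =>
    intro a b hn hb hab hbu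
    rcases List.eq_nil_or_concat' a with rfl | ⟨a', i, rfl⟩
    · -- the longest element sends `u` to the negative side
      exfalso
      apply hu1
      have hcos : R.nw ((l0 ++ l).reverse ++ b) ∈ R.H := by
        refine R.mem_H_of_pos fun r hr => ?_
        rw [ww_append, show R.ww b r = R.ww (l0 ++ l) r by rw [ww_append, ← hab r]; rfl,
          (R.ww_reverse' _ r).1]
        exact hr
      obtain ⟨k, hk, ek⟩ := R.exists_nw_inv (l0 ++ l)
      have eb : R.nw b = R.nw (l0 ++ l) * (k * R.nw ((l0 ++ l).reverse ++ b)) := by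
        rw [nw_append _ (l0 ++ l).reverse, show k * (R.nw (l0 ++ l).reverse * R.nw b) =
          (R.nw (l0 ++ l))⁻¹ * R.nw b by rw [ek]; group]
        group
      obtain ⟨k', hk', eb'⟩ : ∃ k' ∈ R.H, R.nw b = k' * R.nw (l0 ++ l) :=
        ⟨_, R.nw_conj_H (l0 ++ l) (mul_mem hk hcos), by rw [eb]; group⟩
      have hV0 : ∀ y ∈ R.Upos, R.nw l0 * y * (R.nw l0)⁻¹ ∈ R.Vneg :=
        R.span_conj fun r hr y hy => R.U_le_span (A := {s | ¬ R.pos s}) (hl0 r hr)
          (R.conj_U_mem (R.map_conj_U l0 r) hy)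
      have hV : R.nw b * u * (R.nw b)⁻¹ ∈ R.Vneg := by
        rw [eb', show k' * R.nw (l0 ++ l) * u * (k' * R.nw (l0 ++ l))⁻¹ =
          k' * (R.nw l0 * (R.nw l * u * (R.nw l)⁻¹) * (R.nw l0)⁻¹) * k'⁻¹ by rw [nw_append]; group]
        exact R.H_conj_span _ hk' _ (hV0 _ hp')
      exact conj_eq_one_iff.1 (Subgroup.mem_bot.1 (R.B_inf_V.le ⟨R.Upos_le_B hbu, hV⟩))
    by_cases hred : R.pos (R.ww a' (R.simple i))
    swap
    · -- the word can be shortened
      obtain ⟨a'', hlen, k, hk, e⟩ := R.exists_shorter hred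
      refine ihn a''.length (by subst hn; simp; omega) a'' b rfl hb (fun r => ?_) hbu
      rw [← hab r, ww_append, ww_append, R.ww_eq_of_coset hid hk e]
    have hneg : ¬ R.pos (R.ww (a' ++ [i]) (R.simple i)) := by
      rw [ww_append, ww_cons, ww_nil, R.w_simple, R.ww_neg, R.pos_neg]
      exact fun h' => h' hred
    -- the last letter is fixed
    have hi : R.ww l (R.simple i) = R.simple i := by
      by_contra hne
      have hj := (hall i).resolve_right hne
      have hrev : ∀ k ∈ b.reverse, R.ww l (R.simple k) = R.simple k :=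
        fun k hk => hb k (List.mem_reverse.1 hk)
      have h1 := R.neg_keep hid hsq hj b.reverse hrev
      apply hneg
      have e := hab (R.ww b.reverse (R.simple i))
      rw [ww_append, (R.ww_reverse' b _).2, R.ww_comm_word hid hrev] at e
      rw [e, ← R.neg_neg (R.ww b.reverse _), R.ww_neg, R.pos_neg]
      exact hl0 _ ((R.pos_neg _).2 h1)
    by_cases hdel : R.nw b * u * (R.nw b)⁻¹ ∈ R.Udel i
    · refine ihn a'.length (by subst hn; simp) a' (i :: b) rfl ?_ (fun r => ?_) ?_
      · intro j hj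
        rcases List.mem_cons.1 hj with rfl | hj
        exacts [hi, hb j hj]
      · rw [← hab r]
        simp
      · rw [nw_cons, show R.n i * R.nw b * u * (R.n i * R.nw b)⁻¹ =
          R.n i * (R.nw b * u * (R.nw b)⁻¹) * (R.n i)⁻¹ by group]
        exact R.Udel_le_Upos i (R.n_conj_Udel i _ hdel)
    -- a fundamental coordinate: the Weyl element grows
    set u₁ := R.nw b * u * (R.nw b)⁻¹ with hu₁
    obtain ⟨kk, hkk, a₁, ha₁, eku⟩ := R.exists_Upos (i := i) hbu
    have ha₁1 : R.n i * a₁ * (R.n i)⁻¹ ≠ 1 := fun e => hdel (by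
      rw [eku, conj_eq_one_iff.1 e, mul_one]
      exact hkk)
    obtain ⟨a₂, ha₂, h₂, hh₂, c₂, hc₂, e⟩ := R.rank_one i _ (R.conj_n_simple ha₁) ha₁1
    -- the conjugates of `m` by `n b` and then `n i` stay in its coset
    obtain ⟨h₁, hh₁, eh₁⟩ : ∃ h₁ ∈ R.H, R.nw b * m * (R.nw b)⁻¹ = h₁ * R.nw l := by
      obtain ⟨k, hk, ek⟩ := R.exists_nw_inv b
      have hcos : R.nw (b ++ l ++ b.reverse ++ l.reverse) ∈ R.H := by
        refine R.mem_H_of_pos fun r hr => ?_
        simp only [ww_append]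
        rw [← R.ww_comm_word hid (l := l) (b := b) hb, (R.ww_reverse' b _).2, (R.ww_reverse' l _).2]
        exact hr
      obtain ⟨k', hk', ek'⟩ := R.exists_nw_inv l
      refine ⟨R.nw b * h * (R.nw b)⁻¹ * (R.nw b * R.nw l * k * (R.nw b * R.nw l)⁻¹) *
        (R.nw (b ++ l ++ b.reverse ++ l.reverse) * (R.nw l * R.nw l.reverse)⁻¹),
        mul_mem (mul_mem (R.nw_conj_H b hh) (by rw [← nw_append]; exact R.nw_conj_H _ hk))
          (mul_mem hcos (inv_mem ?_)), ?_⟩
      · rw [← nw_append]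
        refine R.mem_H_of_pos fun r hr => ?_
        rw [ww_append, (R.ww_reverse' l _).2]
        exact hr
      · simp only [nw_append]
        conv_lhs => rw [hm, ek]
        group
    obtain ⟨h₃, hh₃, eh₃⟩ : ∃ h₃ ∈ R.H, R.n i * (h₁ * R.nw l) * (R.n i)⁻¹ = h₃ * R.nw l := by
      obtain ⟨k, hk, ek⟩ := R.conj_n_mem hi
      refine ⟨R.n i * h₁ * (R.n i)⁻¹ * k⁻¹, mul_mem (R.n_conj_H i _ hh₁) (inv_mem hk), ?_⟩
      calc R.n i * (h₁ * R.nw l) * (R.n i)⁻¹
          = R.n i * h₁ * (R.n i)⁻¹ * k⁻¹ * (k * R.n i * R.nw l) * (R.n i)⁻¹ := by group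
        _ = _ := by rw [← ek]; group
    set m₃ := h₃ * R.nw l with hm₃
    set c₃ := m₃⁻¹ * c₂ * m₃ with hc₃
    have hc₃U : c₃ ∈ R.U (R.simple i) := by
      have h1 : (R.U (R.simple i)).map (MulAut.conj m₃).toMonoidHom = R.U (R.simple i) := by
        rw [R.map_conj_H_nw hh₃, hi]
      rw [← h1] at hc₂
      exact (mem_map_conj _).1 hc₂
    set w := R.n i * kk * (R.n i)⁻¹ * a₂ with hw
    have hwU : w ∈ R.Upos := mul_mem (R.Udel_le_Upos i (R.n_conj_Udel i kk hkk))
      (R.U_le_Upos (R.pos_simple i) ha₂)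
    have hc₃U' : c₃ ∈ R.Upos := R.U_le_Upos (R.pos_simple i) hc₃U
    obtain ⟨w', hw', h₄, hh₄, ew⟩ := R.exists_B
      (show c₃ * (w * h₂) ∈ R.B from mul_mem (R.Upos_le_B hc₃U') (mul_mem (R.Upos_le_B hwU) (R.H_le_B hh₂)))
    refine step (c₃ * R.n i * R.nw b) _ w' (h₄ * (R.n i * h₃ * (R.n i)⁻¹)) (i :: l)
      (mul_mem (mul_mem (hUG c₃ hc₃U') (hnG i)) (R.N_le_G (R.nw_mem_N b))) rfl hw'
      (mul_mem hh₄ (R.n_conj_H i _ hh₃)) ?_ ?_
    · have e1 : R.nw b * t * (R.nw b)⁻¹ = u₁ * (h₁ * R.nw l) := by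
        rw [et, hu₁, ← eh₁]
        group
      have e2 : R.n i * u₁ * (R.n i)⁻¹ = w * h₂ * R.n i * c₂ := by
        rw [eku, show R.n i * (kk * a₁) * (R.n i)⁻¹ = R.n i * kk * (R.n i)⁻¹ * (R.n i * a₁ * (R.n i)⁻¹) by
          group, e, hw]
        group
      rw [nw_cons]
      calc c₃ * R.n i * R.nw b * t * (c₃ * R.n i * R.nw b)⁻¹
          = c₃ * (R.n i * (R.nw b * t * (R.nw b)⁻¹) * (R.n i)⁻¹) * c₃⁻¹ := by group
        _ = c₃ * (R.n i * u₁ * (R.n i)⁻¹) * (R.n i * (h₁ * R.nw l) * (R.n i)⁻¹) * c₃⁻¹ := by rw [e1]; group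
        _ = c₃ * (w * h₂ * R.n i * c₂) * m₃ * c₃⁻¹ := by rw [e2, eh₃]
        _ = c₃ * (w * h₂) * R.n i * m₃ := by rw [hc₃]; group
        _ = _ := by rw [ew, hm₃]; group
    · have hsub : insert (R.simple i) (R.invRoots l) ⊆ R.invRoots (i :: l) := by
        intro x hx
        rw [mem_invRoots]
        simp only [ww_cons]
        rcases Finset.mem_insert.1 hx with rfl | hx
        · refine ⟨R.pos_simple i, ?_⟩
          rw [hi, R.w_simple]
          exact fun hp => (R.pos_neg _).1 hp (R.pos_simple i)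
        · rw [mem_invRoots] at hx
          refine ⟨hx.1, fun hp => ?_⟩
          by_cases he : R.ww l x = R.neg (R.simple i)
          · have h7 := hsq x
            rw [he, R.ww_neg, hi] at h7
            exact (R.pos_neg _).1 (h7 ▸ hx.1) (R.pos_simple i)
          · have h5 : R.pos (R.neg (R.ww l x)) := (R.pos_neg _).2 hx.2
            have h6 := R.w_pos i _ h5 fun e => he (by rw [← e, R.neg_neg])
            rw [R.w_neg] at h6
            exact (R.pos_neg _).1 h6 hp
      refine lt_of_lt_of_le ?_ (Finset.card_le_card hsub)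
      rw [Finset.card_insert_of_notMem]
      · omega
      · rw [mem_invRoots, hi]
        exact fun hh' => hh'.2 (R.pos_simple i)
  exact main w0w.length w0w [] rfl (by simp) (fun r => by rw [hw0w]; simp) (by simpa using hu)

/-- Every involution is conjugate to an involution `h * nw l` with each fundamental root fixed or
made negative by `l`. -/
theorem exists_monomial_involution {t : Γ} (ht : t ∈ R.G) (htt : t * t = 1) : R.MonomialInvolution t := by
  obtain ⟨b, hb, l, u, hu, et⟩ := R.exists_normalForm ht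
  have huU : u ∈ R.Upos := R.Uminus_le_Upos l hu
  obtain ⟨v, hv, h, hh, evh⟩ := R.exists_B (show u * b ∈ R.B from mul_mem (R.Upos_le_B huU) hb)
  have et' : u * t * u⁻¹ = v * (h * R.nw l) := by
    rw [et, ← mul_assoc v h, ← evh]
    group
  obtain ⟨c, hc, h', hh', l', e, hm⟩ := R.monomial_aux hid hl0 _ (u * t * u⁻¹) v h l
    (by rw [show u * t * u⁻¹ * (u * t * u⁻¹) = u * (t * t) * u⁻¹ by group, htt]; group) hv hh et' rfl
  refine ⟨c * u, mul_mem hc (R.B_le_G (R.Upos_le_B huU)), h', hh', l', ?_, hm⟩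
  rw [← e]
  group

end Cfsg.Agent.RGD.RootData
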